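import Mathlib

/-! # Traces of finite-potent endomorphisms (Tate) — helper9 -/

namespace Groth.Agent.Helper9.Tate

open Module

section FP

variable {k : Type*} [Field k] {V : Type*} [AddCommGroup V] [Module k V]

/-- `W` is invariant under `θ` -/
def Inv (θ : V →ₗ[k] V) (W : Submodule k V) : Prop := ∀ x ∈ W, θ x ∈ W

open Classical in
/-- the trace of `θ` on an invariant subspace (`0` if not invariant) -/
noncomputable def trOn (θ : V →ₗ[k] V) (W : Submodule k V) : k :=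
  if h : Inv θ W then LinearMap.trace k W (θ.restrict h) else 0

theorem trOn_eq {θ : V →ₗ[k] V} {W : Submodule k V} (h : Inv θ W) :
    trOn θ W = LinearMap.trace k W (θ.restrict h) := by
  unfold trOn
  rw [dif_pos h]

theorem Inv.sup {θ : V →ₗ[k] V} {W₁ W₂ : Submodule k V} (h₁ : Inv θ W₁) (h₂ : Inv θ W₂) :
    Inv θ (W₁ ⊔ W₂) := by
  intro x hx
  obtain ⟨a, ha, b, hb, rfl⟩ := Submodule.mem_sup.mp hx
  rw [map_add]
  exact Submodule.add_mem _ (Submodule.mem_sup_left (h₁ a ha)) (Submodule.mem_sup_right (h₂ b hb))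

theorem Inv.map {θ : V →ₗ[k] V} {W : Submodule k V} (h : Inv θ W) : Inv θ (W.map θ) := by
  rintro _ ⟨x, hx, rfl⟩
  exact ⟨θ x, h x hx, rfl⟩

theorem inv_range_pow (θ : V →ₗ[k] V) (n : ℕ) : Inv θ (LinearMap.range (θ ^ n)) := by
  rintro _ ⟨x, rfl⟩
  refine ⟨θ x, ?_⟩
  rw [← Module.End.mul_apply, ← Module.End.mul_apply, ← pow_succ, ← pow_succ']

/-- one step: if `θ` maps `W` into the invariant subspace `U ≤ W` the traces agree -/
theorem trOn_eq_of_map_le {θ : V →ₗ[k] V} {U W : Submodule k V} [FiniteDimensional k W]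
    (hUW : U ≤ W) (h : W.map θ ≤ U) : trOn θ W = trOn θ U := by
  have hW : Inv θ W := fun x hx => hUW (h ⟨x, hx, rfl⟩)
  have hU : Inv θ U := fun x hx => h ⟨x, hUW hx, rfl⟩
  have : FiniteDimensional k U := Submodule.finiteDimensional_of_le hUW
  rw [trOn_eq hW, trOn_eq hU]
  let i : U →ₗ[k] W := Submodule.inclusion hUW
  let j : W →ₗ[k] U := (θ.domRestrict W).codRestrict U (fun w => h ⟨w, w.2, rfl⟩)
  have h1 : θ.restrict hW = i ∘ₗ j := by
    ext w
    rfl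
  have h2 : θ.restrict hU = j ∘ₗ i := by
    ext u
    rfl
  rw [h1, h2, LinearMap.trace_comp_comm']

/-- several steps -/
theorem trOn_eq_of_map_pow_le {θ : V →ₗ[k] V} (j : ℕ) :
    ∀ {U W : Submodule k V} [FiniteDimensional k W], U ≤ W → Inv θ U → Inv θ W →
      W.map (θ ^ j) ≤ U → trOn θ W = trOn θ U := by
  induction j with
  | zero =>
    intro U W _ hUW _ _ h
    have : W = U := by
      apply le_antisymm _ hUW
      intro x hx
      exact h ⟨x, hx, by simp⟩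
    rw [this]
  | succ j ih =>
    intro U W _ hUW hU hW h
    obtain ⟨W₁, hW₁⟩ : ∃ W₁ : Submodule k V, W₁ = W.map θ ⊔ U := ⟨_, rfl⟩
    have hW₁W : W₁ ≤ W := by
      rw [hW₁]
      apply sup_le _ hUW
      rintro _ ⟨x, hx, rfl⟩
      exact hW x hx
    have hUW₁ : U ≤ W₁ := by rw [hW₁]; exact le_sup_right
    have hinv₁ : Inv θ W₁ := by rw [hW₁]; exact hW.map.sup hU
    have : FiniteDimensional k W₁ := Submodule.finiteDimensional_of_le hW₁W
    have h1 : trOn θ W = trOn θ W₁ := trOn_eq_of_map_le hW₁W (by rw [hW₁]; exact le_sup_left)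
    have h2 : trOn θ W₁ = trOn θ U := by
      apply ih hUW₁ hU hinv₁
      rw [hW₁, Submodule.map_sup]
      apply sup_le
      · rintro _ ⟨_, ⟨x, hx, rfl⟩, rfl⟩
        apply h
        refine ⟨x, hx, ?_⟩
        rw [pow_succ, Module.End.mul_apply]
      · rintro _ ⟨x, hx, rfl⟩
        clear h ih h1
        induction j with
        | zero => simpa using hx
        | succ j ihj =>
          rw [pow_succ', Module.End.mul_apply]
          exact hU _ ihj
    rw [h1, h2]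

/-- `θ` is finite potent -/
def IsFinPot (θ : V →ₗ[k] V) : Prop := ∃ n : ℕ, FiniteDimensional k (LinearMap.range (θ ^ n))

open Classical in
/-- the trace of a finite potent endomorphism -/
noncomputable def trFP (θ : V →ₗ[k] V) : k :=
  if h : IsFinPot θ then trOn θ (LinearMap.range (θ ^ (Nat.find h))) else 0

theorem trFP_eq_trOn (θ : V →ₗ[k] V) (W : Submodule k V) [FiniteDimensional k W] (hW : Inv θ W)
    (n : ℕ) (hn : LinearMap.range (θ ^ n) ≤ W) : trFP θ = trOn θ W := by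
  classical
  have hfp : IsFinPot θ := ⟨n, Submodule.finiteDimensional_of_le hn⟩
  unfold trFP
  rw [dif_pos hfp]
  obtain ⟨m, hm⟩ : ∃ m, m = Nat.find hfp := ⟨_, rfl⟩
  rw [← hm]
  have hR : FiniteDimensional k (LinearMap.range (θ ^ m)) := by
    rw [hm]
    exact Nat.find_spec hfp
  obtain ⟨R, hRdef⟩ : ∃ R : Submodule k V, R = LinearMap.range (θ ^ m) := ⟨_, rfl⟩
  rw [← hRdef] at hR ⊢
  have hRinv : Inv θ R := by rw [hRdef]; exact inv_range_pow θ m
  have : FiniteDimensional k (W ⊔ R : Submodule k V) := inferInstance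
  have h1 : trOn θ (W ⊔ R) = trOn θ W := by
    apply trOn_eq_of_map_pow_le n le_sup_left hW (hW.sup hRinv)
    rintro _ ⟨x, -, rfl⟩
    exact hn ⟨x, rfl⟩
  have h2 : trOn θ (W ⊔ R) = trOn θ R := by
    apply trOn_eq_of_map_pow_le m le_sup_right hRinv (hW.sup hRinv)
    rintro _ ⟨x, -, rfl⟩
    rw [hRdef]
    exact ⟨x, rfl⟩
  rw [← h2, h1]


theorem trFP_of_not_isFinPot {θ : V →ₗ[k] V} (h : ¬ IsFinPot θ) : trFP θ = 0 := by
  unfold trFP
  rw [dif_neg h]

/-- (T3) nilpotent endomorphisms have trace zero -/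
theorem trFP_eq_zero_of_pow_eq_zero {θ : V →ₗ[k] V} {n : ℕ} (h : θ ^ n = 0) : trFP θ = 0 := by
  have hW : Inv θ (⊥ : Submodule k V) := by
    intro x hx
    rw [Submodule.mem_bot] at hx ⊢
    rw [hx, map_zero]
  rw [trFP_eq_trOn θ ⊥ hW n (by rw [h, LinearMap.range_zero])]
  rw [trOn_eq hW]
  have : (θ.restrict hW) = 0 := Subsingleton.elim _ _
  rw [this, map_zero]

theorem trFP_zero : trFP (0 : V →ₗ[k] V) = 0 :=
  trFP_eq_zero_of_pow_eq_zero (n := 1) (pow_one _)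

/-- (T4) additivity on a common invariant finite-dimensional subspace -/
theorem trFP_add_of_common {θ₁ θ₂ : V →ₗ[k] V} (W : Submodule k V) [FiniteDimensional k W]
    (h₁ : Inv θ₁ W) (h₂ : Inv θ₂ W) (n : ℕ) (hn₁ : LinearMap.range (θ₁ ^ n) ≤ W)
    (hn₂ : LinearMap.range (θ₂ ^ n) ≤ W) (hn : LinearMap.range ((θ₁ + θ₂) ^ n) ≤ W) :
    trFP (θ₁ + θ₂) = trFP θ₁ + trFP θ₂ := by
  have h12 : Inv (θ₁ + θ₂) W := fun x hx => Submodule.add_mem _ (h₁ x hx) (h₂ x hx)
  rw [trFP_eq_trOn θ₁ W h₁ n hn₁, trFP_eq_trOn θ₂ W h₂ n hn₂, trFP_eq_trOn _ W h12 n hn,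
    trOn_eq h₁, trOn_eq h₂, trOn_eq h12, ← map_add]
  congr 1

theorem trFP_smul (c : k) (θ : V →ₗ[k] V) : trFP (c • θ) = c * trFP θ := by
  by_cases hc : c = 0
  · rw [hc, zero_smul, zero_mul, trFP_zero]
  have hpow : ∀ n, (c • θ) ^ n = c ^ n • θ ^ n := fun n => smul_pow c θ n
  have hrange : ∀ n, LinearMap.range ((c • θ) ^ n) = LinearMap.range (θ ^ n) := by
    intro n
    rw [hpow]
    apply le_antisymm
    · rintro _ ⟨x, rfl⟩
      exact ⟨c ^ n • x, by simp⟩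
    · rintro _ ⟨x, rfl⟩
      refine ⟨(c ^ n)⁻¹ • x, ?_⟩
      rw [LinearMap.smul_apply, map_smul, smul_smul, mul_inv_cancel₀ (pow_ne_zero n hc), one_smul]
  by_cases hfp : IsFinPot θ
  · obtain ⟨n, hn⟩ := hfp
    have hinv := inv_range_pow θ n
    have hinv' : Inv (c • θ) (LinearMap.range (θ ^ n)) := fun x hx =>
      Submodule.smul_mem _ c (hinv x hx)
    rw [trFP_eq_trOn θ _ hinv n le_rfl, trFP_eq_trOn (c • θ) _ hinv' n (hrange n).le,
      trOn_eq hinv, trOn_eq hinv', ← smul_eq_mul, ← map_smul]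
    congr 1
  · have hfp' : ¬ IsFinPot (c • θ) := by
      rintro ⟨n, hn⟩
      apply hfp
      refine ⟨n, ?_⟩
      rw [← hrange n]
      exact hn
    rw [trFP_of_not_isFinPot hfp, trFP_of_not_isFinPot hfp', mul_zero]

theorem trFP_neg (θ : V →ₗ[k] V) : trFP (-θ) = -trFP θ := by
  have := trFP_smul (-1 : k) θ
  rwa [neg_one_smul, neg_one_mul] at this

end FP

section T5

variable {k : Type*} [Field k] {V V' : Type*} [AddCommGroup V] [Module k V]
  [AddCommGroup V'] [Module k V']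

theorem comp_pow_comm (f : V →ₗ[k] V') (g : V' →ₗ[k] V) (n : ℕ) :
    (f ∘ₗ g) ^ (n + 1) = f ∘ₗ ((g ∘ₗ f) ^ n) ∘ₗ g := by
  induction n with
  | zero =>
    ext x
    simp
  | succ n ih =>
    rw [pow_succ, ih]
    ext x
    simp only [Module.End.mul_apply, LinearMap.comp_apply]
    rw [pow_succ, Module.End.mul_apply]
    rfl

/-- (T5) `Tr (f g) = Tr (g f)` -/
theorem trFP_comp_comm (f : V →ₗ[k] V') (g : V' →ₗ[k] V) (h : IsFinPot (g ∘ₗ f)) :
    trFP (f ∘ₗ g) = trFP (g ∘ₗ f) := by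
  obtain ⟨n, hn⟩ := h
  obtain ⟨R, hR⟩ : ∃ R : Submodule k V, R = LinearMap.range ((g ∘ₗ f) ^ n) := ⟨_, rfl⟩
  rw [← hR] at hn
  have hRinv : Inv (g ∘ₗ f) R := by rw [hR]; exact inv_range_pow _ n
  obtain ⟨R', hR'⟩ : ∃ R' : Submodule k V', R' = R.map f := ⟨_, rfl⟩
  have : FiniteDimensional k R' := by
    rw [hR']
    infer_instance
  have hR'inv : Inv (f ∘ₗ g) R' := by
    rw [hR']
    rintro _ ⟨x, hx, rfl⟩
    exact ⟨(g ∘ₗ f) x, hRinv x hx, rfl⟩
  have hle : LinearMap.range ((f ∘ₗ g) ^ (n + 1)) ≤ R' := by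
    rw [comp_pow_comm, hR', hR]
    rintro _ ⟨x, rfl⟩
    exact ⟨((g ∘ₗ f) ^ n) (g x), ⟨g x, rfl⟩, rfl⟩
  rw [trFP_eq_trOn (g ∘ₗ f) R hRinv n hR.ge, trFP_eq_trOn (f ∘ₗ g) R' hR'inv (n + 1) hle,
    trOn_eq hRinv, trOn_eq hR'inv]
  let f' : R →ₗ[k] R' := (f.domRestrict R).codRestrict R' (fun x => by
    rw [hR']
    exact ⟨x, x.2, rfl⟩)
  let g' : R' →ₗ[k] R := (g.domRestrict R').codRestrict R (fun y => by
    have hy : (y : V') ∈ R.map f := hR' ▸ y.2
    obtain ⟨x, hx, hxy⟩ := hy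
    change g (y : V') ∈ R
    rw [← hxy]
    exact hRinv x hx)
  have h1 : (g ∘ₗ f).restrict hRinv = g' ∘ₗ f' := by
    ext x
    rfl
  have h2 : (f ∘ₗ g).restrict hR'inv = f' ∘ₗ g' := by
    ext x
    rfl
  rw [h1, h2, LinearMap.trace_comp_comm']

end T5

end Groth.Agent.Helper9.Tate
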