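import Mathlib
import Groth.Agent.Lib.Helper9.Tate.FinPot

/-! # The finite-potent class `E₀(A)` and Tate's abstract residue — helper9 -/

namespace Groth.Agent.Helper9.Tate

open Module

section E0

variable {k : Type*} [Field k] {V : Type*} [AddCommGroup V] [Module k V]

/-- `A` is contained in `B` up to a finite-dimensional subspace -/
def Almost (A B : Submodule k V) : Prop :=
  ∃ W : Submodule k V, FiniteDimensional k W ∧ A ≤ B ⊔ W

theorem Almost.of_le {A B : Submodule k V} (h : A ≤ B) : Almost A B :=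
  ⟨⊥, inferInstance, h.trans le_sup_left⟩

theorem Almost.sup {A₁ A₂ B : Submodule k V} (h₁ : Almost A₁ B) (h₂ : Almost A₂ B) :
    Almost (A₁ ⊔ A₂) B := by
  obtain ⟨W₁, hf₁, hW₁⟩ := h₁
  obtain ⟨W₂, hf₂, hW₂⟩ := h₂
  refine ⟨W₁ ⊔ W₂, inferInstance, sup_le ?_ ?_⟩
  · exact hW₁.trans (sup_le_sup_left le_sup_left _)
  · exact hW₂.trans (sup_le_sup_left le_sup_right _)

theorem Almost.of_finite (A B : Submodule k V) [FiniteDimensional k A] : Almost A B :=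
  ⟨A, inferInstance, le_sup_right⟩

theorem Almost.map {A B : Submodule k V} (h : Almost A B) (θ : V →ₗ[k] V) :
    Almost (A.map θ) (B.map θ) := by
  obtain ⟨W, hf, hW⟩ := h
  refine ⟨W.map θ, inferInstance, ?_⟩
  rw [← Submodule.map_sup]
  exact Submodule.map_mono hW

theorem Almost.trans {A B C : Submodule k V} (h₁ : Almost A B) (h₂ : Almost B C) :
    Almost A C := by
  obtain ⟨W₁, hf₁, hW₁⟩ := h₁
  obtain ⟨W₂, hf₂, hW₂⟩ := h₂
  refine ⟨W₂ ⊔ W₁, inferInstance, hW₁.trans ?_⟩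
  rw [← sup_assoc]
  exact sup_le_sup_right hW₂ _

theorem Almost.mono_left {A A' B : Submodule k V} (h : Almost A B) (h' : A' ≤ A) : Almost A' B :=
  (Almost.of_le h').trans h

/-- `A ≺ 0`: finite-dimensional -/
theorem Almost.finite_of_bot {A : Submodule k V} (h : Almost A ⊥) : FiniteDimensional k A := by
  obtain ⟨W, hf, hW⟩ := h
  rw [bot_sup_eq] at hW
  exact Submodule.finiteDimensional_of_le hW

/-- the class `E₀(A)`: maps `V` almost into `A`, and `A` into a finite-dimensional space -/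
def E0 (A : Submodule k V) : Submodule k (V →ₗ[k] V) where
  carrier := {θ | Almost (LinearMap.range θ) A ∧ Almost (A.map θ) ⊥}
  add_mem' := by
    rintro θ₁ θ₂ ⟨h₁, h₁'⟩ ⟨h₂, h₂'⟩
    constructor
    · refine (h₁.sup h₂).mono_left ?_
      rintro _ ⟨x, rfl⟩
      exact Submodule.add_mem_sup ⟨x, rfl⟩ ⟨x, rfl⟩
    · refine (h₁'.sup h₂').mono_left ?_
      rintro _ ⟨x, hx, rfl⟩
      exact Submodule.add_mem_sup ⟨x, hx, rfl⟩ ⟨x, hx, rfl⟩
  zero_mem' := by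
    constructor
    · rw [LinearMap.range_zero]
      exact Almost.of_le bot_le
    · refine Almost.of_le ?_
      rintro _ ⟨x, -, rfl⟩
      simp
  smul_mem' := by
    rintro c θ ⟨h₁, h₂⟩
    constructor
    · refine h₁.mono_left ?_
      rintro _ ⟨x, rfl⟩
      exact ⟨c • x, by simp⟩
    · refine h₂.mono_left ?_
      rintro _ ⟨x, hx, rfl⟩
      exact ⟨c • x, Submodule.smul_mem _ c hx, by simp⟩

theorem mem_E0 {A : Submodule k V} {θ : V →ₗ[k] V} :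
    θ ∈ E0 A ↔ Almost (LinearMap.range θ) A ∧ Almost (A.map θ) ⊥ := Iff.rfl

/-- products of two elements of `E₀(A)` have finite rank -/
theorem finite_range_comp_of_mem_E0 {A : Submodule k V} {θ₁ θ₂ : V →ₗ[k] V}
    (h₁ : θ₁ ∈ E0 A) (h₂ : θ₂ ∈ E0 A) : FiniteDimensional k (LinearMap.range (θ₁ ∘ₗ θ₂)) := by
  rw [LinearMap.range_comp]
  apply Almost.finite_of_bot
  exact (h₂.1.map θ₁).trans h₁.2

theorem isFinPot_of_mem_E0 {A : Submodule k V} {θ : V →ₗ[k] V} (h : θ ∈ E0 A) : IsFinPot θ := by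
  refine ⟨2, ?_⟩
  have := finite_range_comp_of_mem_E0 h h
  rwa [pow_two]

/-- (T4) the trace is additive on `E₀(A)` -/
theorem trFP_add_of_mem_E0 {A : Submodule k V} {θ₁ θ₂ : V →ₗ[k] V}
    (h₁ : θ₁ ∈ E0 A) (h₂ : θ₂ ∈ E0 A) : trFP (θ₁ + θ₂) = trFP θ₁ + trFP θ₂ := by
  have f11 := finite_range_comp_of_mem_E0 h₁ h₁
  have f12 := finite_range_comp_of_mem_E0 h₁ h₂
  have f21 := finite_range_comp_of_mem_E0 h₂ h₁
  have f22 := finite_range_comp_of_mem_E0 h₂ h₂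
  obtain ⟨W, hW⟩ : ∃ W : Submodule k V, W = LinearMap.range (θ₁ ∘ₗ θ₁) ⊔ LinearMap.range (θ₁ ∘ₗ θ₂) ⊔
      LinearMap.range (θ₂ ∘ₗ θ₁) ⊔ LinearMap.range (θ₂ ∘ₗ θ₂) := ⟨_, rfl⟩
  have hfin : FiniteDimensional k W := by
    rw [hW]
    infer_instance
  have hmem : ∀ (a b : V →ₗ[k] V), (a = θ₁ ∨ a = θ₂) → (b = θ₁ ∨ b = θ₂) → ∀ x, a (b x) ∈ W := by
    intro a b ha hb x
    rw [hW]
    rcases ha with rfl | rfl <;> rcases hb with rfl | rfl
    · exact Submodule.mem_sup_left (Submodule.mem_sup_left (Submodule.mem_sup_left ⟨x, rfl⟩))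
    · exact Submodule.mem_sup_left (Submodule.mem_sup_left (Submodule.mem_sup_right ⟨x, rfl⟩))
    · exact Submodule.mem_sup_left (Submodule.mem_sup_right ⟨x, rfl⟩)
    · exact Submodule.mem_sup_right ⟨x, rfl⟩
  have hinv : ∀ c : V →ₗ[k] V, (c = θ₁ ∨ c = θ₂) → Inv c W := by
    intro c hc x hx
    rw [hW] at hx
    have key : ∀ (a b : V →ₗ[k] V), (a = θ₁ ∨ a = θ₂) → (b = θ₁ ∨ b = θ₂) →
        ∀ y ∈ LinearMap.range (a ∘ₗ b), c y ∈ W := by
      rintro a b ha hb _ ⟨z, rfl⟩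
      exact hmem c a hc ha (b z)
    obtain ⟨y, hy, z4, hz4, rfl⟩ := Submodule.mem_sup.mp hx
    obtain ⟨y', hy', z3, hz3, rfl⟩ := Submodule.mem_sup.mp hy
    obtain ⟨z1, hz1, z2, hz2, rfl⟩ := Submodule.mem_sup.mp hy'
    simp only [map_add]
    exact Submodule.add_mem _ (Submodule.add_mem _ (Submodule.add_mem _
      (key θ₁ θ₁ (Or.inl rfl) (Or.inl rfl) z1 hz1) (key θ₁ θ₂ (Or.inl rfl) (Or.inr rfl) z2 hz2))
      (key θ₂ θ₁ (Or.inr rfl) (Or.inl rfl) z3 hz3)) (key θ₂ θ₂ (Or.inr rfl) (Or.inr rfl) z4 hz4)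
  apply trFP_add_of_common W (hinv θ₁ (Or.inl rfl)) (hinv θ₂ (Or.inr rfl)) 2
  · rintro _ ⟨x, rfl⟩
    rw [pow_two]
    exact hmem θ₁ θ₁ (Or.inl rfl) (Or.inl rfl) x
  · rintro _ ⟨x, rfl⟩
    rw [pow_two]
    exact hmem θ₂ θ₂ (Or.inr rfl) (Or.inr rfl) x
  · rintro _ ⟨x, rfl⟩
    rw [pow_two]
    simp only [Module.End.mul_apply, LinearMap.add_apply, map_add]
    exact Submodule.add_mem _ (Submodule.add_mem _ (hmem θ₁ θ₁ (Or.inl rfl) (Or.inl rfl) x)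
      (hmem θ₂ θ₁ (Or.inr rfl) (Or.inl rfl) x)) (Submodule.add_mem _
      (hmem θ₁ θ₂ (Or.inl rfl) (Or.inr rfl) x) (hmem θ₂ θ₂ (Or.inr rfl) (Or.inr rfl) x))

/-- the trace as a linear form on `E₀(A)` -/
noncomputable def trE0 (A : Submodule k V) : E0 A →ₗ[k] k where
  toFun θ := trFP θ.1
  map_add' θ₁ θ₂ := trFP_add_of_mem_E0 θ₁.2 θ₂.2
  map_smul' c θ := trFP_smul c θ.1

theorem trFP_sub_of_mem_E0 {A : Submodule k V} {θ₁ θ₂ : V →ₗ[k] V}
    (h₁ : θ₁ ∈ E0 A) (h₂ : θ₂ ∈ E0 A) : trFP (θ₁ - θ₂) = trFP θ₁ - trFP θ₂ := by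
  rw [sub_eq_add_neg, trFP_add_of_mem_E0 h₁ ((E0 A).neg_mem h₂), trFP_neg, ← sub_eq_add_neg]

theorem trFP_sum_of_mem_E0 {A : Submodule k V} {ι : Type*} (s : Finset ι) (θ : ι → V →ₗ[k] V)
    (h : ∀ i ∈ s, θ i ∈ E0 A) : trFP (∑ i ∈ s, θ i) = ∑ i ∈ s, trFP (θ i) := by
  classical
  induction s using Finset.induction_on with
  | empty => simp [trFP_zero]
  | insert i s hi ih =>
    rw [Finset.sum_insert hi, Finset.sum_insert hi,
      trFP_add_of_mem_E0 (h i (Finset.mem_insert_self i s))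
        ((E0 A).sum_mem (fun j hj => h j (Finset.mem_insert_of_mem hj))),
      ih (fun j hj => h j (Finset.mem_insert_of_mem hj))]

end E0

end Groth.Agent.Helper9.Tate
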