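import Mathlib
import Groth.Agent.Lib.Helper9.Tate.EZero

/-! # Tate's abstract residue — helper9 -/

namespace Groth.Agent.Helper9.Tate

open Module

section Res

variable {k : Type*} [Field k] {V : Type*} [AddCommGroup V] [Module k V]

/-- the operator `[π, g] f = (π g - g π) f` -/
def tN (π f g : V →ₗ[k] V) : V →ₗ[k] V := (π ∘ₗ g - g ∘ₗ π) ∘ₗ f

theorem tN_apply (π f g : V →ₗ[k] V) (x : V) : tN π f g x = π (g (f x)) - g (π (f x)) := rfl

/-- Tate's residue of `f dg` with respect to the subspace with projection `π` -/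
noncomputable def tres (π f g : V →ₗ[k] V) : k := trFP (tN π f g)

variable {A : Submodule k V} {π : V →ₗ[k] V}

theorem almost_map_comm_bot (hπ : LinearMap.IsProj A π) {g : V →ₗ[k] V}
    (hg : Almost (A.map g) A) : Almost (A.map (π ∘ₗ g - g ∘ₗ π)) ⊥ := by
  obtain ⟨W, hf, hW⟩ := hg
  refine ⟨W.map (π - LinearMap.id), inferInstance, ?_⟩
  rw [bot_sup_eq]
  rintro _ ⟨a, ha, rfl⟩
  obtain ⟨a', ha', w, hw, hsum⟩ := Submodule.mem_sup.mp (hW ⟨a, ha, rfl⟩)
  refine ⟨w, hw, ?_⟩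
  simp only [LinearMap.sub_apply, LinearMap.comp_apply, LinearMap.id_apply]
  rw [hπ.map_id a ha, ← hsum, map_add, hπ.map_id a' ha']
  abel

theorem tN_mem_E0 (hπ : LinearMap.IsProj A π) {f g : V →ₗ[k] V}
    (hf : Almost (A.map f) A) (hg : Almost (A.map g) A) : tN π f g ∈ E0 A := by
  constructor
  · have h1 : LinearMap.range (tN π f g) ≤ A ⊔ A.map g := by
      rintro _ ⟨x, rfl⟩
      rw [tN_apply]
      exact Submodule.sub_mem _ (Submodule.mem_sup_left (hπ.map_mem _))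
        (Submodule.mem_sup_right ⟨_, hπ.map_mem _, rfl⟩)
    exact ((Almost.of_le le_rfl).sup hg).mono_left h1
  · have h1 : A.map (tN π f g) = (A.map f).map (π ∘ₗ g - g ∘ₗ π) := by
      unfold tN
      rw [Submodule.map_comp]
    rw [h1]
    exact (hf.map _).trans (almost_map_comm_bot hπ hg)

theorem isFinPot_tN (hπ : LinearMap.IsProj A π) {f g : V →ₗ[k] V}
    (hf : Almost (A.map f) A) (hg : Almost (A.map g) A) : IsFinPot (tN π f g) :=
  isFinPot_of_mem_E0 (tN_mem_E0 hπ hf hg)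

/-- additivity in `f` -/
theorem tres_add_left (hπ : LinearMap.IsProj A π) {f₁ f₂ g : V →ₗ[k] V}
    (hf₁ : Almost (A.map f₁) A) (hf₂ : Almost (A.map f₂) A) (hg : Almost (A.map g) A) :
    tres π (f₁ + f₂) g = tres π f₁ g + tres π f₂ g := by
  unfold tres
  have : tN π (f₁ + f₂) g = tN π f₁ g + tN π f₂ g := by
    unfold tN
    rw [LinearMap.comp_add]
  rw [this, trFP_add_of_mem_E0 (tN_mem_E0 hπ hf₁ hg) (tN_mem_E0 hπ hf₂ hg)]

/-- additivity in `g` -/
theorem tres_add_right (hπ : LinearMap.IsProj A π) {f g₁ g₂ : V →ₗ[k] V}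
    (hf : Almost (A.map f) A) (hg₁ : Almost (A.map g₁) A) (hg₂ : Almost (A.map g₂) A) :
    tres π f (g₁ + g₂) = tres π f g₁ + tres π f g₂ := by
  unfold tres
  have : tN π f (g₁ + g₂) = tN π f g₁ + tN π f g₂ := by
    ext x
    simp only [tN_apply, LinearMap.add_apply, map_add]
    abel
  rw [this, trFP_add_of_mem_E0 (tN_mem_E0 hπ hf hg₁) (tN_mem_E0 hπ hf hg₂)]

theorem tres_zero_left (π g : V →ₗ[k] V) : tres π 0 g = 0 := by
  unfold tres tN
  rw [LinearMap.comp_zero, trFP_zero]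

theorem tres_zero_right (π f : V →ₗ[k] V) : tres π f 0 = 0 := by
  unfold tres tN
  rw [LinearMap.comp_zero, LinearMap.zero_comp, sub_zero, LinearMap.zero_comp, trFP_zero]

/-- (R1) vanishing when `f`, `g f`, `g g f` preserve `A` -/
theorem tres_eq_zero_of_map_le (hπ : LinearMap.IsProj A π) {f g : V →ₗ[k] V}
    (hcomm : f ∘ₗ g = g ∘ₗ f)
    (h1 : A.map f ≤ A) (h2 : A.map (g ∘ₗ f) ≤ A) (h3 : A.map (g ∘ₗ g ∘ₗ f) ≤ A) :
    tres π f g = 0 := by
  apply trFP_eq_zero_of_pow_eq_zero (n := 2)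
  have hfg : ∀ x, f (g x) = g (f x) := fun x => LinearMap.congr_fun hcomm x
  have hA : ∀ a ∈ A, tN π f g a = 0 := by
    intro a ha
    have e1 : g (f a) ∈ A := h2 ⟨a, ha, rfl⟩
    rw [tN_apply, hπ.map_id _ (h1 ⟨a, ha, rfl⟩), hπ.map_id _ e1, sub_self]
  have hgA : ∀ a ∈ A, tN π f g (g a) = 0 := by
    intro a ha
    have e1 : g (f a) ∈ A := h2 ⟨a, ha, rfl⟩
    have e2 : g (g (f a)) ∈ A := h3 ⟨a, ha, rfl⟩
    rw [tN_apply, hfg, hπ.map_id _ e1, hπ.map_id _ e2, sub_self]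
  ext x
  rw [pow_two, Module.End.mul_apply, LinearMap.zero_apply]
  have : tN π f g x = π (g (f x)) - g (π (f x)) := rfl
  rw [this, map_sub, hA _ (hπ.map_mem _), hgA _ (hπ.map_mem _), sub_self]

/-- independence of the projection -/
theorem tres_eq_of_isProj {π₁ π₂ : V →ₗ[k] V} (h₁ : LinearMap.IsProj A π₁)
    (h₂ : LinearMap.IsProj A π₂) {f g : V →ₗ[k] V} (hcomm : f ∘ₗ g = g ∘ₗ f)
    (hf : Almost (A.map f) A) (hg : Almost (A.map g) A) : tres π₁ f g = tres π₂ f g := by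
  obtain ⟨δ, hδ⟩ : ∃ δ : V →ₗ[k] V, δ = π₁ - π₂ := ⟨_, rfl⟩
  have hδA : ∀ x, δ x ∈ A := by
    intro x
    rw [hδ]
    exact Submodule.sub_mem _ (h₁.map_mem x) (h₂.map_mem x)
  have hδ0 : ∀ a ∈ A, δ a = 0 := by
    intro a ha
    rw [hδ, LinearMap.sub_apply, h₁.map_id a ha, h₂.map_id a ha, sub_self]
  have hmapδ : A.map δ = ⊥ := by
    rw [eq_bot_iff]
    rintro _ ⟨a, ha, rfl⟩
    rw [hδ0 a ha]
    exact Submodule.zero_mem _
  -- the two correction terms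
  have hE1 : δ ∘ₗ g ∘ₗ f ∈ E0 A := by
    constructor
    · apply Almost.of_le
      rintro _ ⟨x, rfl⟩
      exact hδA _
    · have : A.map (δ ∘ₗ g ∘ₗ f) = ((A.map f).map g).map δ := by
        rw [Submodule.map_comp, Submodule.map_comp]
      rw [this]
      have h3 : Almost ((A.map f).map g) A := (hf.map g).trans hg
      have h4 := h3.map δ
      rwa [hmapδ] at h4
  have hE2 : g ∘ₗ δ ∘ₗ f ∈ E0 A := by
    constructor
    · have : LinearMap.range (g ∘ₗ δ ∘ₗ f) ≤ A.map g := by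
        rintro _ ⟨x, rfl⟩
        exact ⟨δ (f x), hδA _, rfl⟩
      exact hg.mono_left this
    · have : A.map (g ∘ₗ δ ∘ₗ f) = ((A.map f).map δ).map g := by
        rw [Submodule.map_comp, Submodule.map_comp]
      rw [this]
      have h3 := hf.map δ
      rw [hmapδ] at h3
      have h4 := h3.map g
      rwa [Submodule.map_bot] at h4
  have hdiff : tN π₁ f g = tN π₂ f g + (δ ∘ₗ g ∘ₗ f - g ∘ₗ δ ∘ₗ f) := by
    ext x
    simp only [tN_apply, LinearMap.add_apply, LinearMap.sub_apply, LinearMap.comp_apply, hδ, map_sub]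
    abel
  unfold tres
  rw [hdiff, trFP_add_of_mem_E0 (tN_mem_E0 h₂ hf hg) ((E0 A).sub_mem hE1 hE2),
    trFP_sub_of_mem_E0 hE1 hE2]
  have hT5 : trFP (g ∘ₗ (δ ∘ₗ f)) = trFP ((δ ∘ₗ f) ∘ₗ g) := by
    apply trFP_comp_comm
    have : (δ ∘ₗ f) ∘ₗ g = δ ∘ₗ g ∘ₗ f := by
      rw [LinearMap.comp_assoc, hcomm]
    rw [this]
    exact isFinPot_of_mem_E0 hE1
  have h5 : (δ ∘ₗ f) ∘ₗ g = δ ∘ₗ g ∘ₗ f := by
    rw [LinearMap.comp_assoc, hcomm]
  rw [hT5, h5, sub_self, add_zero]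

end Res

end Groth.Agent.Helper9.Tate
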