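import Mathlib
import Groth.Agent.Lib.Helper9.Tate.Res

/-! # Tate's abstract residue: the global vanishing lemma — helper9 -/

namespace Groth.Agent.Helper9.Tate

open Module

section Glob

variable {k : Type*} [Field k] {V : Type*} [AddCommGroup V] [Module k V]

/-- a finite rank operator plus a square-zero operator -/
theorem trFP_add_of_finite_of_sq_zero {X N : V →ₗ[k] V} [FiniteDimensional k (LinearMap.range X)]
    (hN : N ∘ₗ N = 0) : trFP (X + N) = trFP X + trFP N := by
  obtain ⟨W, hW⟩ : ∃ W : Submodule k V, W = LinearMap.range X ⊔ (LinearMap.range X).map N := ⟨_, rfl⟩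
  have hfin : FiniteDimensional k W := by
    rw [hW]
    infer_instance
  have hNN : ∀ x, N (N x) = 0 := fun x => LinearMap.congr_fun hN x
  have hX : Inv X W := by
    intro x _
    rw [hW]
    exact Submodule.mem_sup_left ⟨x, rfl⟩
  have hNW : Inv N W := by
    intro x hx
    rw [hW] at hx ⊢
    obtain ⟨a, ha, b, hb, rfl⟩ := Submodule.mem_sup.mp hx
    obtain ⟨c, hc, rfl⟩ := hb
    rw [map_add, hNN, add_zero]
    exact Submodule.mem_sup_right ⟨a, ha, rfl⟩
  apply trFP_add_of_common W hX hNW 2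
  · rintro _ ⟨x, rfl⟩
    rw [pow_two, Module.End.mul_apply, hW]
    exact Submodule.mem_sup_left ⟨X x, rfl⟩
  · rintro _ ⟨x, rfl⟩
    rw [pow_two, Module.End.mul_apply, hNN]
    exact Submodule.zero_mem _
  · rintro _ ⟨x, rfl⟩
    have e : ((X + N) ^ 2) x = X (X x) + X (N x) + N (X x) := by
      rw [pow_two, Module.End.mul_apply]
      simp only [LinearMap.add_apply, map_add, hNN, add_zero]
      abel
    rw [e, hW]
    refine Submodule.add_mem _ (Submodule.add_mem _ ?_ ?_) ?_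
    · exact Submodule.mem_sup_left ⟨_, rfl⟩
    · exact Submodule.mem_sup_left ⟨_, rfl⟩
    · exact Submodule.mem_sup_right ⟨_, ⟨x, rfl⟩, rfl⟩

/-- finite rank operators: `Tr (ρ g f) = Tr (g ρ f)` -/
theorem trFP_comm_of_finite {ρ f g : V →ₗ[k] V} [FiniteDimensional k (LinearMap.range ρ)]
    (hcomm : f ∘ₗ g = g ∘ₗ f) : trFP (ρ ∘ₗ g ∘ₗ f - g ∘ₗ ρ ∘ₗ f) = 0 := by
  have h1 : ρ ∘ₗ g ∘ₗ f ∈ E0 (⊥ : Submodule k V) := by
    constructor
    · have : LinearMap.range (ρ ∘ₗ g ∘ₗ f) ≤ LinearMap.range ρ := by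
        rintro _ ⟨x, rfl⟩
        exact ⟨_, rfl⟩
      exact (Almost.of_finite _ _).mono_left this
    · rw [Submodule.map_bot]
      exact Almost.of_le le_rfl
  have h2 : g ∘ₗ ρ ∘ₗ f ∈ E0 (⊥ : Submodule k V) := by
    constructor
    · have : LinearMap.range (g ∘ₗ ρ ∘ₗ f) ≤ (LinearMap.range ρ).map g := by
        rintro _ ⟨x, rfl⟩
        exact ⟨_, ⟨f x, rfl⟩, rfl⟩
      exact (Almost.of_finite _ _).mono_left this
    · rw [Submodule.map_bot]
      exact Almost.of_le le_rfl
  rw [trFP_sub_of_mem_E0 h1 h2]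
  have h5 : (ρ ∘ₗ f) ∘ₗ g = ρ ∘ₗ g ∘ₗ f := by
    rw [LinearMap.comp_assoc, hcomm]
  have hT5 : trFP (g ∘ₗ (ρ ∘ₗ f)) = trFP ((ρ ∘ₗ f) ∘ₗ g) := by
    apply trFP_comp_comm
    rw [h5]
    exact isFinPot_of_mem_E0 h1
  rw [hT5, h5, sub_self]


/-- a complement of `X ⊓ D` inside `D` -/
theorem exists_compl_in (X D : Submodule k V) :
    ∃ D' : Submodule k V, D' ≤ D ∧ X ⊓ D' = ⊥ ∧ (X ⊓ D) ⊔ D' = D := by
  obtain ⟨q, hq⟩ := Submodule.exists_isCompl ((X ⊓ D).comap D.subtype)
  refine ⟨q.map D.subtype, Submodule.map_subtype_le D q, ?_, ?_⟩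
  · rw [eq_bot_iff]
    rintro x ⟨hxX, ⟨y, hy, rfl⟩⟩
    have h1 : y ∈ (X ⊓ D).comap D.subtype := ⟨hxX, y.2⟩
    have h2 : y ∈ ((X ⊓ D).comap D.subtype) ⊓ q := ⟨h1, hy⟩
    rw [hq.inf_eq_bot, Submodule.mem_bot] at h2
    rw [h2]
    exact Submodule.zero_mem _
  · apply le_antisymm
    · exact sup_le inf_le_right (Submodule.map_subtype_le D q)
    · intro d hd
      have h1 : (⟨d, hd⟩ : D) ∈ ((X ⊓ D).comap D.subtype) ⊔ q := by
        rw [hq.sup_eq_top]
        exact Submodule.mem_top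
      obtain ⟨y₁, hy₁, y₂, hy₂, hsum⟩ := Submodule.mem_sup.mp h1
      have : d = (y₁ : V) + (y₂ : V) := by
        have := congrArg (Subtype.val) hsum
        exact this.symm
      rw [this]
      exact Submodule.add_mem_sup hy₁ ⟨y₂, hy₂, rfl⟩

/-- **the global vanishing lemma**: if `B` is stable under `f` and `g`, `A ⊓ B` is finite-dimensional
and `A + B` has finite codimension, then the residue with respect to `A` vanishes -/
theorem tres_eq_zero_of_global {A B : Submodule k V} {π : V →ₗ[k] V} (hπ : LinearMap.IsProj A π)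
    {f g : V →ₗ[k] V} (hcomm : f ∘ₗ g = g ∘ₗ f)
    (hf : Almost (A.map f) A) (hg : Almost (A.map g) A)
    (hBf : B.map f ≤ B) (hBg : B.map g ≤ B)
    [FiniteDimensional k (A ⊓ B : Submodule k V)]
    (D : Submodule k V) [FiniteDimensional k D] (hD : A ⊔ B ⊔ D = ⊤) :
    tres π f g = 0 := by
  -- complements
  obtain ⟨B', hB'B, hAB', hCB'⟩ := exists_compl_in A B
  obtain ⟨D', hD'D, hABD', hABD'2⟩ := exists_compl_in (A ⊔ B') D
  have hsupAB : A ⊔ B' = A ⊔ B := by
    apply le_antisymm (sup_le_sup_left hB'B _)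
    rw [← hCB']
    exact sup_le le_sup_left (sup_le (inf_le_left.trans le_sup_left) le_sup_right)
  have htop : A ⊔ B' ⊔ D' = ⊤ := by
    rw [eq_top_iff, ← hD, ← hsupAB, ← hABD'2]
    exact sup_le le_sup_left (sup_le (inf_le_left.trans le_sup_left) le_sup_right)
  have hfinD' : FiniteDimensional k D' := Submodule.finiteDimensional_of_le hD'D
  have hc1 : IsCompl A (B' ⊔ D') := by
    constructor
    · rw [disjoint_iff, eq_bot_iff]
      rintro x ⟨hxA, hx⟩
      obtain ⟨b, hb, d, hd, rfl⟩ := Submodule.mem_sup.mp hx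
      have hd0 : d ∈ (A ⊔ B') ⊓ D' := by
        refine ⟨?_, hd⟩
        have : d = (b + d) - b := by abel
        rw [this]
        exact Submodule.sub_mem _ (Submodule.mem_sup_left hxA) (Submodule.mem_sup_right hb)
      rw [hABD', Submodule.mem_bot] at hd0
      rw [hd0, add_zero] at hxA ⊢
      have : b ∈ A ⊓ B' := ⟨hxA, hb⟩
      rwa [hAB'] at this
    · rw [codisjoint_iff, ← sup_assoc]
      exact htop
  have hc2 : IsCompl B' (A ⊔ D') := by
    constructor
    · rw [disjoint_iff, eq_bot_iff]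
      rintro x ⟨hxB, hx⟩
      obtain ⟨a, ha, d, hd, rfl⟩ := Submodule.mem_sup.mp hx
      have hd0 : d ∈ (A ⊔ B') ⊓ D' := by
        refine ⟨?_, hd⟩
        have : d = (a + d) - a := by abel
        rw [this]
        exact Submodule.sub_mem _ (Submodule.mem_sup_right hxB) (Submodule.mem_sup_left ha)
      rw [hABD', Submodule.mem_bot] at hd0
      rw [hd0, add_zero] at hxB ⊢
      have : a ∈ A ⊓ B' := ⟨ha, hxB⟩
      rwa [hAB'] at this
    · rw [codisjoint_iff, ← sup_assoc, sup_comm B' A]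
      exact htop
  obtain ⟨C₀', hC₀'⟩ := Submodule.exists_isCompl (A ⊓ B)
  -- the projections
  obtain ⟨πA, hπA⟩ : ∃ p : V →ₗ[k] V, p = A.projection (B' ⊔ D') hc1 := ⟨_, rfl⟩
  obtain ⟨πB', hπB'⟩ : ∃ p : V →ₗ[k] V, p = B'.projection (A ⊔ D') hc2 := ⟨_, rfl⟩
  obtain ⟨κ, hκ⟩ : ∃ p : V →ₗ[k] V, p = (A ⊓ B).projection C₀' hC₀' := ⟨_, rfl⟩
  have hπAproj : LinearMap.IsProj A πA := by
    rw [hπA]
    exact ⟨fun x => Submodule.projection_apply_mem hc1 x,
      fun x hx => Submodule.projection_apply_of_mem_left hc1 hx⟩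
  have hκmem : ∀ x, κ x ∈ A ⊓ B := by
    intro x
    rw [hκ]
    exact Submodule.projection_apply_mem hC₀' x
  have hκid : ∀ x ∈ A ⊓ B, κ x = x := by
    intro x hx
    rw [hκ]
    exact Submodule.projection_apply_of_mem_left hC₀' hx
  obtain ⟨πB, hπB⟩ : ∃ p : V →ₗ[k] V, p = πB' + κ ∘ₗ πA := ⟨_, rfl⟩
  have hπBproj : LinearMap.IsProj B πB := by
    constructor
    · intro x
      rw [hπB, LinearMap.add_apply, LinearMap.comp_apply]
      apply Submodule.add_mem
      · rw [hπB']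
        exact hB'B (Submodule.projection_apply_mem hc2 x)
      · exact (hκmem _).2
    · intro b hb
      rw [← hCB'] at hb
      obtain ⟨c, hc, b', hb', rfl⟩ := Submodule.mem_sup.mp hb
      rw [hπB, LinearMap.add_apply, LinearMap.comp_apply, map_add, map_add]
      have e1 : πB' c = 0 := by
        rw [hπB']
        exact Submodule.projection_apply_of_mem_right hc2 (Submodule.mem_sup_left hc.1)
      have e2 : πB' b' = b' := by
        rw [hπB']
        exact Submodule.projection_apply_of_mem_left hc2 hb'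
      have e3 : πA c = c := hπAproj.map_id c hc.1
      have e4 : πA b' = 0 := by
        rw [hπA]
        exact Submodule.projection_apply_of_mem_right hc1 (Submodule.mem_sup_left hb')
      rw [e1, e2, e3, e4, add_zero, hκid c hc, zero_add, add_comm]
  -- the finite rank correction
  obtain ⟨ρ, hρ⟩ : ∃ ρ : V →ₗ[k] V, ρ = πA + πB - LinearMap.id := ⟨_, rfl⟩
  have hρrange : LinearMap.range ρ ≤ D' ⊔ (A ⊓ B) := by
    rintro _ ⟨x, rfl⟩
    have hx : x ∈ A ⊔ B' ⊔ D' := by rw [htop]; exact Submodule.mem_top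
    obtain ⟨y, hy, d, hd, rfl⟩ := Submodule.mem_sup.mp hx
    obtain ⟨a, ha, b', hb', rfl⟩ := Submodule.mem_sup.mp hy
    have e1 : πA (a + b' + d) = a := by
      rw [map_add, map_add, hπAproj.map_id a ha, hπA,
        Submodule.projection_apply_of_mem_right hc1 (Submodule.mem_sup_left hb'),
        Submodule.projection_apply_of_mem_right hc1 (Submodule.mem_sup_right hd), add_zero, add_zero]
    have e2 : πB' (a + b' + d) = b' := by
      rw [map_add, map_add, hπB',
        Submodule.projection_apply_of_mem_right hc2 (Submodule.mem_sup_left ha),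
        Submodule.projection_apply_of_mem_left hc2 hb',
        Submodule.projection_apply_of_mem_right hc2 (Submodule.mem_sup_right hd), zero_add, add_zero]
    have e3 : ρ (a + b' + d) = -d + κ a := by
      rw [hρ, LinearMap.sub_apply, LinearMap.add_apply, hπB, LinearMap.add_apply,
        LinearMap.comp_apply, e1, e2, LinearMap.id_apply]
      abel
    rw [e3]
    exact Submodule.add_mem_sup (Submodule.neg_mem _ hd) (hκmem a)
  have hρfin : FiniteDimensional k (LinearMap.range ρ) := Submodule.finiteDimensional_of_le hρrange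
  -- the residue with respect to `B` vanishes
  have hNB : tN πB f g ∘ₗ tN πB f g = 0 := by
    have hfg : ∀ x, f (g x) = g (f x) := fun x => LinearMap.congr_fun hcomm x
    have hB0 : ∀ b ∈ B, tN πB f g b = 0 := by
      intro b hb
      have e1 : f b ∈ B := hBf ⟨b, hb, rfl⟩
      have e2 : g (f b) ∈ B := hBg ⟨_, e1, rfl⟩
      rw [tN_apply, hπBproj.map_id _ e1, hπBproj.map_id _ e2, sub_self]
    ext x
    rw [LinearMap.comp_apply, LinearMap.zero_apply]
    apply hB0
    rw [tN_apply]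
    exact Submodule.sub_mem _ (hπBproj.map_mem _) (hBg ⟨_, hπBproj.map_mem _, rfl⟩)
  -- assemble
  rw [tres_eq_of_isProj hπ hπAproj hcomm hf hg]
  unfold tres
  have hsum : tN πA f g = (ρ ∘ₗ g ∘ₗ f - g ∘ₗ ρ ∘ₗ f) + (-(tN πB f g)) := by
    ext x
    simp only [tN_apply, LinearMap.add_apply, LinearMap.sub_apply, LinearMap.neg_apply,
      LinearMap.comp_apply, hρ, LinearMap.id_apply, map_sub, map_add]
    abel
  have hfin2 : FiniteDimensional k (LinearMap.range (ρ ∘ₗ g ∘ₗ f - g ∘ₗ ρ ∘ₗ f)) := by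
    have : LinearMap.range (ρ ∘ₗ g ∘ₗ f - g ∘ₗ ρ ∘ₗ f) ≤
        LinearMap.range ρ ⊔ (LinearMap.range ρ).map g := by
      rintro _ ⟨x, rfl⟩
      rw [LinearMap.sub_apply]
      exact Submodule.sub_mem _ (Submodule.mem_sup_left ⟨_, rfl⟩)
        (Submodule.mem_sup_right ⟨_, ⟨f x, rfl⟩, rfl⟩)
    exact Submodule.finiteDimensional_of_le this
  have hneg : (-(tN πB f g)) ∘ₗ (-(tN πB f g)) = 0 := by
    rw [LinearMap.neg_comp, LinearMap.comp_neg, neg_neg, hNB]
  rw [hsum, trFP_add_of_finite_of_sq_zero hneg, trFP_comm_of_finite hcomm, zero_add, trFP_neg]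
  rw [trFP_eq_zero_of_pow_eq_zero (n := 2) (by rw [pow_two]; exact hNB), neg_zero]

end Glob

end Groth.Agent.Helper9.Tate
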