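import Mathlib
import Groth.Agent.Lib.Helper9.Tate.Global

/-! # Tate's abstract residue: change of the ambient space — helper9 -/

namespace Groth.Agent.Helper9.Tate

open Module

section Transfer

variable {k : Type*} [Field k] {V V' : Type*} [AddCommGroup V] [Module k V]
  [AddCommGroup V'] [Module k V']

theorem tres_transfer (i : V →ₗ[k] V') (hi : Function.Injective i)
    {A : Submodule k V} {A' : Submodule k V'} (hA : A = A'.comap i)
    (hsup : LinearMap.range i ⊔ A' = ⊤)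
    {π : V →ₗ[k] V} (hπ : LinearMap.IsProj A π) {π' : V' →ₗ[k] V'} (hπ' : LinearMap.IsProj A' π')
    {f g : V →ₗ[k] V} {f' g' : V' →ₗ[k] V'} (hf : i ∘ₗ f = f' ∘ₗ i) (hg : i ∘ₗ g = g' ∘ₗ i)
    (hcomm : f ∘ₗ g = g ∘ₗ f) (hcomm' : f' ∘ₗ g' = g' ∘ₗ f')
    (hfA : Almost (A.map f) A) (hgA : Almost (A.map g) A)
    (hfA' : Almost (A'.map f') A') (hgA' : Almost (A'.map g') A') :
    tres π f g = tres π' f' g' := by
  obtain ⟨C, hC⟩ := Submodule.exists_isCompl A
  have hfi : ∀ v, i (f v) = f' (i v) := fun v => LinearMap.congr_fun hf v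
  have hgi : ∀ v, i (g v) = g' (i v) := fun v => LinearMap.congr_fun hg v
  have hiA : ∀ a ∈ A, i a ∈ A' := by
    intro a ha
    rw [hA] at ha
    exact ha
  have hc' : IsCompl A' (C.map i) := by
    constructor
    · rw [disjoint_iff, eq_bot_iff]
      rintro _ ⟨hx, ⟨c, hc, rfl⟩⟩
      have hcA : c ∈ A := by
        rw [hA]
        exact hx
      have : c ∈ A ⊓ C := ⟨hcA, hc⟩
      rw [hC.inf_eq_bot, Submodule.mem_bot] at this
      rw [this, map_zero]
      exact Submodule.zero_mem _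
    · rw [codisjoint_iff, eq_top_iff, ← hsup]
      apply sup_le _ le_sup_left
      rintro _ ⟨v, rfl⟩
      have hv : v ∈ A ⊔ C := by rw [hC.sup_eq_top]; exact Submodule.mem_top
      obtain ⟨a, ha, c, hc, rfl⟩ := Submodule.mem_sup.mp hv
      rw [map_add]
      exact Submodule.add_mem_sup (hiA a ha) ⟨c, hc, rfl⟩
  obtain ⟨π₀, hπ₀⟩ : ∃ p : V →ₗ[k] V, p = A.projection C hC := ⟨_, rfl⟩
  obtain ⟨π₀', hπ₀'⟩ : ∃ p : V' →ₗ[k] V', p = A'.projection (C.map i) hc' := ⟨_, rfl⟩
  have hp : LinearMap.IsProj A π₀ := by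
    rw [hπ₀]
    exact ⟨fun x => Submodule.projection_apply_mem hC x,
      fun x hx => Submodule.projection_apply_of_mem_left hC hx⟩
  have hp' : LinearMap.IsProj A' π₀' := by
    rw [hπ₀']
    exact ⟨fun x => Submodule.projection_apply_mem hc' x,
      fun x hx => Submodule.projection_apply_of_mem_left hc' hx⟩
  have hpi : ∀ v, π₀' (i v) = i (π₀ v) := by
    intro v
    have hv : v ∈ A ⊔ C := by rw [hC.sup_eq_top]; exact Submodule.mem_top
    obtain ⟨a, ha, c, hc, rfl⟩ := Submodule.mem_sup.mp hv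
    rw [map_add, map_add, map_add, map_add, hp.map_id a ha, hp'.map_id _ (hiA a ha), hπ₀, hπ₀',
      Submodule.projection_apply_of_mem_right hC hc,
      Submodule.projection_apply_of_mem_right hc' ⟨c, hc, rfl⟩, map_zero]
  rw [tres_eq_of_isProj hπ hp hcomm hfA hgA, tres_eq_of_isProj hπ' hp' hcomm' hfA' hgA']
  -- intertwining
  have hNi : ∀ v, tN π₀' f' g' (i v) = i (tN π₀ f g v) := by
    intro v
    rw [tN_apply, tN_apply, ← hfi, ← hgi, hpi, hpi, ← hgi, map_sub]
  have hδ : ∀ y, π₀' (g' y) - g' (π₀' y) ∈ LinearMap.range i := by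
    intro y
    have hy : y ∈ LinearMap.range i ⊔ A' := by rw [hsup]; exact Submodule.mem_top
    obtain ⟨_, ⟨v, rfl⟩, a', ha', rfl⟩ := Submodule.mem_sup.mp hy
    have e1 : π₀' (g' (i v)) - g' (π₀' (i v)) = i (π₀ (g v) - g (π₀ v)) := by
      rw [← hgi, hpi, hpi, ← hgi, map_sub]
    have e2 : π₀' (g' a') - g' (π₀' a') ∈ LinearMap.range i := by
      rw [hp'.map_id a' ha']
      have hz : g' a' ∈ LinearMap.range i ⊔ A' := by rw [hsup]; exact Submodule.mem_top
      obtain ⟨_, ⟨v₂, rfl⟩, a₂, ha₂, hsum⟩ := Submodule.mem_sup.mp hz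
      rw [← hsum, map_add, hpi, hp'.map_id a₂ ha₂]
      refine ⟨π₀ v₂ - v₂, ?_⟩
      rw [map_sub]
      abel
    rw [map_add, map_add, map_add, map_add]
    have : π₀' (g' (i v)) + π₀' (g' a') - (g' (π₀' (i v)) + g' (π₀' a')) =
        (π₀' (g' (i v)) - g' (π₀' (i v))) + (π₀' (g' a') - g' (π₀' a')) := by abel
    rw [this, e1]
    exact Submodule.add_mem _ ⟨_, rfl⟩ e2
  have hrange : ∀ y, tN π₀' f' g' y ∈ LinearMap.range i := fun y => hδ (f' y)
  -- the factorization
  obtain ⟨M, hM⟩ : ∃ M : V' →ₗ[k] V, ∀ y, i (M y) = tN π₀' f' g' y := by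
    refine ⟨(LinearEquiv.ofInjective i hi).symm.toLinearMap ∘ₗ
      (tN π₀' f' g').codRestrict (LinearMap.range i) hrange, fun y => ?_⟩
    rw [LinearMap.comp_apply]
    have := (LinearEquiv.ofInjective i hi).apply_symm_apply
      ((tN π₀' f' g').codRestrict (LinearMap.range i) hrange y)
    exact congrArg Subtype.val this
  have h1 : tN π₀' f' g' = i ∘ₗ M := by
    ext y
    rw [LinearMap.comp_apply, hM]
  have h2 : tN π₀ f g = M ∘ₗ i := by
    ext v
    apply hi
    rw [LinearMap.comp_apply, hM, hNi]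
  unfold tres
  rw [h1, h2]
  symm
  apply trFP_comp_comm
  rw [← h2]
  exact isFinPot_tN hp hfA hgA

end Transfer

end Groth.Agent.Helper9.Tate
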