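import Mathlib
import Groth.Prelude.Def_LocRes
import Groth.Agent.Lib.Helper9.Tate.Transfer

/-! # Tate's residue on Laurent series: truncation, the filtration — helper9 -/

namespace Groth.Agent.Helper9.Tate

open Module HahnSeries WithZero

section T1

variable {k : Type*} [Field k] {V : Type*} [AddCommGroup V] [Module k V]

/-- (T1) on a finite-dimensional space the finite-potent trace is the trace -/
theorem trFP_eq_trace [FiniteDimensional k V] (θ : V →ₗ[k] V) : trFP θ = LinearMap.trace k V θ := by
  have hinv : Inv θ (⊤ : Submodule k V) := fun x _ => Submodule.mem_top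
  rw [trFP_eq_trOn θ ⊤ hinv 0 le_top, trOn_eq hinv]
  have : θ.restrict hinv = (Submodule.topEquiv (R := k) (M := V)).symm.conj θ := by
    ext x
    rfl
  rw [this, LinearMap.trace_conj']

end T1

section Laurent

variable {k F : Type*} [Field k] [Field F] [Algebra k F]

/-- the filtration of Laurent series by order, as `k`-subspaces -/
def Afil (k : Type*) {F : Type*} [Field k] [Field F] [Algebra k F] (D : ℤ) :
    Submodule k (LaurentSeries F) where
  carrier := {x | ∀ n : ℤ, n < D → x.coeff n = 0}
  add_mem' := by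
    intro x y hx hy n hn
    rw [HahnSeries.coeff_add, hx n hn, hy n hn, add_zero]
  zero_mem' := by
    intro n _
    rfl
  smul_mem' := by
    intro c x hx n hn
    rw [HahnSeries.coeff_smul, hx n hn, smul_zero]

theorem mem_Afil {D : ℤ} {x : LaurentSeries F} :
    x ∈ Afil k D ↔ ∀ n : ℤ, n < D → x.coeff n = 0 := Iff.rfl

theorem mem_Afil_iff_val {D : ℤ} {x : LaurentSeries F} :
    x ∈ Afil k D ↔ Valued.v x ≤ exp (-D) :=
  (LaurentSeries.valuation_le_iff_coeff_lt_eq_zero F).symm

theorem Afil_mono {D E : ℤ} (h : D ≤ E) : Afil k (F := F) E ≤ Afil k D := by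
  intro x hx n hn
  exact hx n (lt_of_lt_of_le hn h)

theorem mul_mem_Afil {D E : ℤ} {x y : LaurentSeries F} (hx : x ∈ Afil k D) (hy : y ∈ Afil k E) :
    x * y ∈ Afil k (D + E) := by
  rw [mem_Afil_iff_val] at hx hy ⊢
  rw [map_mul, neg_add, exp_add]
  exact mul_le_mul' hx hy

theorem exists_mem_Afil (x : LaurentSeries F) : ∃ M : ℕ, x ∈ Afil k (-(M : ℤ)) := by
  refine ⟨(-x.order).toNat, fun n hn => ?_⟩
  apply HahnSeries.coeff_eq_zero_of_lt_order
  have := Int.self_le_toNat (-x.order)
  omega

/-- the regular part of a Laurent series -/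
noncomputable def trunc (k : Type*) {F : Type*} [Field k] [Field F] [Algebra k F] :
    LaurentSeries F →ₗ[k] LaurentSeries F where
  toFun x := ((PowerSeries.mk fun n : ℕ => x.coeff (n : ℤ) : PowerSeries F) : LaurentSeries F)
  map_add' := by
    intro x y
    ext n
    simp only [HahnSeries.coeff_add, PowerSeries.coeff_coe, PowerSeries.coeff_mk]
    split_ifs <;> simp
  map_smul' := by
    intro c x
    ext n
    simp only [HahnSeries.coeff_smul, PowerSeries.coeff_coe, PowerSeries.coeff_mk, RingHom.id_apply]
    split_ifs <;> simp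

theorem trunc_coeff (x : LaurentSeries F) (j : ℤ) :
    (trunc k x).coeff j = if 0 ≤ j then x.coeff j else 0 := by
  change ((PowerSeries.mk fun n : ℕ => x.coeff (n : ℤ) : PowerSeries F) : LaurentSeries F).coeff j = _
  rw [PowerSeries.coeff_coe, PowerSeries.coeff_mk]
  by_cases hj : 0 ≤ j
  · rw [if_neg (by omega), if_pos hj]
    congr 1
    omega
  · rw [if_pos (by omega), if_neg hj]

theorem trunc_mem (x : LaurentSeries F) : trunc k x ∈ Afil k 0 := by
  intro n hn
  rw [trunc_coeff, if_neg (by omega)]

theorem trunc_of_mem {x : LaurentSeries F} (hx : x ∈ Afil k 0) : trunc k x = x := by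
  ext n
  rw [trunc_coeff]
  by_cases hn : 0 ≤ n
  · rw [if_pos hn]
  · rw [if_neg hn, hx n (by omega)]

theorem isProj_trunc : LinearMap.IsProj (Afil k (F := F) 0) (trunc k) :=
  ⟨fun x => trunc_mem x, fun _ hx => trunc_of_mem hx⟩

theorem sub_trunc_mem {M : ℤ} {x : LaurentSeries F} (hx : x ∈ Afil k M) :
    x - trunc k x ∈ Afil k M := by
  intro n hn
  rw [HahnSeries.coeff_sub, trunc_coeff, hx n hn]
  split_ifs <;> simp

/-- the polar parts of order at least `-M` -/
def Wpol (k : Type*) {F : Type*} [Field k] [Field F] [Algebra k F] (M : ℕ) :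
    Submodule k (LaurentSeries F) where
  carrier := {x | ∀ n : ℤ, (n < -(M : ℤ) ∨ 0 ≤ n) → x.coeff n = 0}
  add_mem' := by
    intro x y hx hy n hn
    rw [HahnSeries.coeff_add, hx n hn, hy n hn, add_zero]
  zero_mem' := by
    intro n _
    rfl
  smul_mem' := by
    intro c x hx n hn
    rw [HahnSeries.coeff_smul, hx n hn, smul_zero]

instance finite_Wpol [FiniteDimensional k F] (M : ℕ) : FiniteDimensional k (Wpol k (F := F) M) := by
  let e : Wpol k (F := F) M →ₗ[k] (Fin M → F) :=
    { toFun := fun x i => (x : LaurentSeries F).coeff (-(M : ℤ) + (i : ℕ))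
      map_add' := by
        intro x y
        funext i
        simp
      map_smul' := by
        intro c x
        funext i
        simp }
  apply FiniteDimensional.of_injective e
  intro x y hxy
  apply Subtype.ext
  ext n
  by_cases hn : n < -(M : ℤ) ∨ 0 ≤ n
  · rw [x.2 n hn, y.2 n hn]
  · push Not at hn
    have hi : (n + M).toNat < M := by omega
    have := congrFun hxy ⟨(n + M).toNat, hi⟩
    change (x : LaurentSeries F).coeff _ = (y : LaurentSeries F).coeff _ at this
    have e1 : -(M : ℤ) + ((n + M).toNat : ℕ) = n := by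
      have := Int.toNat_of_nonneg (show 0 ≤ n + M by omega)
      omega
    simp only at this
    rw [e1] at this
    exact this

theorem almost_Afil [FiniteDimensional k F] (M : ℕ) :
    Almost (Afil k (F := F) (-(M : ℤ))) (Afil k 0) := by
  refine ⟨Wpol k M, inferInstance, ?_⟩
  intro x hx
  have : x = trunc k x + (x - trunc k x) := by abel
  rw [this]
  refine Submodule.add_mem_sup (trunc_mem x) ?_
  intro n hn
  rcases hn with hn | hn
  · exact sub_trunc_mem hx n hn
  · rw [HahnSeries.coeff_sub, trunc_coeff, if_pos hn, sub_self]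

theorem smul_eq_C_mul (c : k) (x : LaurentSeries F) :
    c • x = HahnSeries.C (algebraMap k F c) * x := by
  rw [HahnSeries.C_mul_eq_smul, algebraMap_smul]

/-- multiplication by a Laurent series, as a `k`-linear map -/
noncomputable def mulL (k : Type*) {F : Type*} [Field k] [Field F] [Algebra k F]
    (y : LaurentSeries F) : LaurentSeries F →ₗ[k] LaurentSeries F where
  toFun x := y * x
  map_add' := mul_add y
  map_smul' c x := by
    rw [RingHom.id_apply, smul_eq_C_mul, smul_eq_C_mul, mul_left_comm]

@[simp] theorem mulL_apply (y x : LaurentSeries F) : mulL k y x = y * x := rfl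

theorem mulL_comm (y z : LaurentSeries F) : mulL k y ∘ₗ mulL k z = mulL k z ∘ₗ mulL k y := by
  ext x
  simp only [LinearMap.comp_apply, mulL_apply]
  rw [mul_left_comm]

theorem almost_mulL [FiniteDimensional k F] (y : LaurentSeries F) :
    Almost ((Afil k 0).map (mulL k y)) (Afil k 0) := by
  obtain ⟨M, hM⟩ := exists_mem_Afil (k := k) y
  refine (almost_Afil M).mono_left ?_
  rintro _ ⟨a, ha, rfl⟩
  have := mul_mem_Afil hM ha
  rw [add_zero] at this
  exact this

end Laurent

end Groth.Agent.Helper9.Tate
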