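import Mathlib
import Groth.Prelude.Def_LocRes
import Groth.Agent.Lib.Helper9.Tate.LaurentA

/-! # Tate's residue on Laurent series: vanishing for small arguments — helper9 -/

namespace Groth.Agent.Helper9.Tate

open Module HahnSeries WithZero

section Laurent2

variable {k F : Type*} [Field k] [Field F] [Algebra k F]

/-- Tate's residue on Laurent series -/
noncomputable def TL (k : Type*) {F : Type*} [Field k] [Field F] [Algebra k F]
    (y z : LaurentSeries F) : k := tres (trunc k) (mulL k y) (mulL k z)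

/-- the Laurent residue, traced to `k` -/
noncomputable def RL (k : Type*) {F : Type*} [Field k] [Field F] [Algebra k F]
    (y z : LaurentSeries F) : k := Algebra.trace k F ((y * LocRes.D F z).coeff (-1))

theorem mulL_add (y₁ y₂ : LaurentSeries F) : mulL k (y₁ + y₂) = mulL k y₁ + mulL k y₂ := by
  ext x
  simp only [mulL_apply, LinearMap.add_apply, add_mul]

theorem mulL_zero : mulL k (0 : LaurentSeries F) = 0 := by
  ext x
  simp only [mulL_apply, LinearMap.zero_apply, zero_mul]

variable [FiniteDimensional k F]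

theorem TL_add_left (y₁ y₂ z : LaurentSeries F) : TL k (y₁ + y₂) z = TL k y₁ z + TL k y₂ z := by
  unfold TL
  rw [mulL_add, tres_add_left isProj_trunc (almost_mulL y₁) (almost_mulL y₂) (almost_mulL z)]

theorem TL_add_right (y z₁ z₂ : LaurentSeries F) : TL k y (z₁ + z₂) = TL k y z₁ + TL k y z₂ := by
  unfold TL
  rw [mulL_add, tres_add_right isProj_trunc (almost_mulL y) (almost_mulL z₁) (almost_mulL z₂)]

omit [FiniteDimensional k F] in
theorem TL_zero_left (z : LaurentSeries F) : TL k 0 z = 0 := by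
  unfold TL
  rw [mulL_zero, tres_zero_left]

omit [FiniteDimensional k F] in
theorem TL_zero_right (y : LaurentSeries F) : TL k y 0 = 0 := by
  unfold TL
  rw [mulL_zero, tres_zero_right]

omit [FiniteDimensional k F] in
theorem RL_add_left (y₁ y₂ z : LaurentSeries F) : RL k (y₁ + y₂) z = RL k y₁ z + RL k y₂ z := by
  unfold RL
  rw [add_mul, HahnSeries.coeff_add, map_add]

omit [FiniteDimensional k F] in
theorem RL_add_right (y z₁ z₂ : LaurentSeries F) : RL k y (z₁ + z₂) = RL k y z₁ + RL k y z₂ := by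
  unfold RL
  rw [map_add, mul_add, HahnSeries.coeff_add, map_add]

omit [FiniteDimensional k F] in
theorem RL_zero_left (z : LaurentSeries F) : RL k 0 z = 0 := by
  unfold RL
  rw [zero_mul, HahnSeries.coeff_zero, map_zero]

omit [FiniteDimensional k F] in
theorem RL_zero_right (y : LaurentSeries F) : RL k y 0 = 0 := by
  unfold RL
  rw [map_zero, mul_zero, HahnSeries.coeff_zero, map_zero]

omit [FiniteDimensional k F] in
theorem D_mem_Afil {E : ℤ} {z : LaurentSeries F} (hz : z ∈ Afil k E) :
    LocRes.D F z ∈ Afil k (E - 1) := by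
  intro n hn
  rw [LocRes.D_coeff, hz (n + 1) (by omega), smul_zero]

omit [FiniteDimensional k F] in
theorem RL_eq_zero_of_mem {D E : ℤ} {y z : LaurentSeries F} (hy : y ∈ Afil k D)
    (hz : z ∈ Afil k E) (h : 0 ≤ D + E - 1) : RL k y z = 0 := by
  unfold RL
  have := mul_mem_Afil hy (D_mem_Afil hz)
  rw [this (-1) (by omega), map_zero]

omit [FiniteDimensional k F] in
theorem TL_eq_zero_left {M : ℕ} {y z : LaurentSeries F} (hy : y ∈ Afil k (2 * (M : ℤ) + 1))
    (hz : z ∈ Afil k (-(M : ℤ))) : TL k y z = 0 := by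
  unfold TL
  apply tres_eq_zero_of_map_le isProj_trunc (mulL_comm y z)
  · rintro _ ⟨a, ha, rfl⟩
    exact Afil_mono (by omega) (mul_mem_Afil hy ha)
  · rintro _ ⟨a, ha, rfl⟩
    exact Afil_mono (by omega) (mul_mem_Afil hz (mul_mem_Afil hy ha))
  · rintro _ ⟨a, ha, rfl⟩
    exact Afil_mono (by omega) (mul_mem_Afil hz (mul_mem_Afil hz (mul_mem_Afil hy ha)))

omit [FiniteDimensional k F] in
theorem TL_eq_zero_right {M : ℕ} {y z : LaurentSeries F} (hy : y ∈ Afil k (-(M : ℤ)))
    (hz : z ∈ Afil k (2 * (M : ℤ) + 1)) : TL k y z = 0 := by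
  unfold TL tres
  apply trFP_eq_zero_of_pow_eq_zero (n := 3)
  have h1 : ∀ x, tN (trunc k) (mulL k y) (mulL k z) x ∈ Afil k 0 := by
    intro x
    rw [tN_apply]
    apply Submodule.sub_mem _ (trunc_mem _)
    exact Afil_mono (by omega) (mul_mem_Afil hz (trunc_mem _))
  have h2 : ∀ a ∈ Afil k (F := F) 0, tN (trunc k) (mulL k y) (mulL k z) a =
      z * (y * a - trunc k (y * a)) := by
    intro a ha
    rw [tN_apply]
    simp only [mulL_apply]
    have : z * (y * a) ∈ Afil k 0 :=
      Afil_mono (by omega) (mul_mem_Afil hz (mul_mem_Afil hy ha))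
    rw [trunc_of_mem this]
    ring
  have h3 : ∀ a ∈ Afil k (F := F) 0, tN (trunc k) (mulL k y) (mulL k z) a ∈ Afil k (M : ℤ) := by
    intro a ha
    rw [h2 a ha]
    have h4 : y * a - trunc k (y * a) ∈ Afil k (-(M : ℤ)) :=
      sub_trunc_mem (Afil_mono (by omega) (mul_mem_Afil hy ha))
    exact Afil_mono (by omega) (mul_mem_Afil hz h4)
  have h5 : ∀ b ∈ Afil k (F := F) (M : ℤ), tN (trunc k) (mulL k y) (mulL k z) b = 0 := by
    intro b hb
    rw [h2 b (Afil_mono (by omega) hb)]
    have : y * b ∈ Afil k 0 := Afil_mono (by omega) (mul_mem_Afil hy hb)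
    rw [trunc_of_mem this, sub_self, mul_zero]
  apply LinearMap.ext
  intro x
  rw [pow_succ, pow_two, Module.End.mul_apply, Module.End.mul_apply, LinearMap.zero_apply]
  exact h5 _ (h3 _ (h1 x))

end Laurent2

end Groth.Agent.Helper9.Tate
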