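import Mathlib
import Groth.Prelude.Def_LocRes
import Groth.Agent.Lib.Helper9.Tate.LaurentB

/-! # Tate's residue on Laurent series: monomials — helper9 -/

namespace Groth.Agent.Helper9.Tate

open Module HahnSeries WithZero

section Laurent3

variable {k F : Type*} [Field k] [Field F] [Algebra k F]

/-- the rank one (over `F`) operator `x ↦ c x_{j-s} X^j` -/
noncomputable def rank1 (k : Type*) {F : Type*} [Field k] [Field F] [Algebra k F]
    (j s : ℤ) (c : F) : LaurentSeries F →ₗ[k] LaurentSeries F :=
  (HahnSeries.single.linearMap (R := k) j) ∘ₗ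
    ((LinearMap.mulLeft k c) ∘ₗ (HahnSeries.coeff.linearMap (R := k) (j - s)))

theorem rank1_apply (j s : ℤ) (c : F) (x : LaurentSeries F) :
    rank1 k j s c x = HahnSeries.single j (c * x.coeff (j - s)) := rfl

variable [FiniteDimensional k F]

theorem rank1_mem_E0 (j s : ℤ) (c : F) : rank1 k j s c ∈ E0 (⊥ : Submodule k (LaurentSeries F)) := by
  constructor
  · have h1 : LinearMap.range (rank1 k j s c) ≤
        LinearMap.range (HahnSeries.single.linearMap (R := k) (V := F) j) := by
      rintro _ ⟨x, rfl⟩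
      exact ⟨_, rfl⟩
    exact (Almost.of_finite _ _).mono_left h1
  · rw [Submodule.map_bot]
    exact Almost.of_le le_rfl

theorem trFP_rank1 (j s : ℤ) (c : F) :
    trFP (rank1 k j s c) = if s = 0 then Algebra.trace k F c else 0 := by
  unfold rank1
  rw [trFP_comp_comm]
  · rw [trFP_eq_trace]
    by_cases hs : s = 0
    · rw [if_pos hs, Algebra.trace_apply]
      congr 1
      ext u
      simp [hs]
    · rw [if_neg hs]
      have : ((LinearMap.mulLeft k c) ∘ₗ (HahnSeries.coeff.linearMap (R := k) (j - s))) ∘ₗ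
          (HahnSeries.single.linearMap (R := k) j) = 0 := by
        ext u
        have hne : j - s ≠ j := by omega
        simp [hne]
      rw [this, map_zero]
  · exact ⟨0, by rw [pow_zero]; infer_instance⟩

/-- operators given by a window of coefficients -/
theorem trFP_of_window (θ : LaurentSeries F →ₗ[k] LaurentSeries F) (J : Finset ℤ) (s : ℤ) (c : F)
    (h : ∀ x i, (θ x).coeff i = if i ∈ J then c * x.coeff (i - s) else 0) :
    trFP θ = if s = 0 then J.card • Algebra.trace k F c else 0 := by
  have hθ : θ = ∑ j ∈ J, rank1 k j s c := by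
    ext x i
    rw [h, LinearMap.sum_apply, HahnSeries.coeff_sum]
    simp only [rank1_apply, HahnSeries.coeff_single]
    by_cases hi : i ∈ J
    · rw [if_pos hi, Finset.sum_eq_single i]
      · rw [if_pos rfl]
      · intro b _ hb
        rw [if_neg (Ne.symm hb)]
      · intro hcon
        exact absurd hi hcon
    · rw [if_neg hi]
      symm
      apply Finset.sum_eq_zero
      intro b hb
      rw [if_neg]
      rintro rfl
      exact hi hb
  rw [hθ, trFP_sum_of_mem_E0 J _ (fun j _ => rank1_mem_E0 j s c)]
  simp only [trFP_rank1]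
  by_cases hs : s = 0
  · simp [hs]
  · simp [hs]

omit [FiniteDimensional k F] in
theorem D_single (m : ℤ) (b : F) :
    LocRes.D F (HahnSeries.single m b) = HahnSeries.single (m - 1) (m • b) := by
  ext n
  rw [LocRes.D_coeff, HahnSeries.coeff_single, HahnSeries.coeff_single]
  by_cases hn : n = m - 1
  · have : n + 1 = m := by omega
    rw [if_pos this, if_pos hn, this]
  · have : n + 1 ≠ m := by omega
    rw [if_neg this, if_neg hn, smul_zero]

omit [FiniteDimensional k F] in
theorem RL_single (l m : ℤ) (a b : F) :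
    RL k (HahnSeries.single l a) (HahnSeries.single m b) =
      if l + m = 0 then m • Algebra.trace k F (a * b) else 0 := by
  unfold RL
  rw [D_single, HahnSeries.single_mul_single, HahnSeries.coeff_single]
  by_cases h : l + m = 0
  · have : (-1 : ℤ) = l + (m - 1) := by omega
    rw [if_pos this, if_pos h, mul_smul_comm, map_zsmul]
  · have : (-1 : ℤ) ≠ l + (m - 1) := by omega
    rw [if_neg this, if_neg h, map_zero]

omit [FiniteDimensional k F] in
theorem tN_single_coeff (l m : ℤ) (a b : F) (x : LaurentSeries F) (i : ℤ) :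
    (tN (trunc k) (mulL k (HahnSeries.single l a)) (mulL k (HahnSeries.single m b)) x).coeff i =
      (if 0 ≤ i then b * (a * x.coeff (i - (l + m))) else 0) -
        (if m ≤ i then b * (a * x.coeff (i - (l + m))) else 0) := by
  rw [tN_apply]
  simp only [mulL_apply]
  rw [HahnSeries.coeff_sub, trunc_coeff, HahnSeries.coeff_single_mul, HahnSeries.coeff_single_mul,
    HahnSeries.coeff_single_mul, trunc_coeff, HahnSeries.coeff_single_mul]
  have e : i - m - l = i - (l + m) := by ring
  rw [e]
  congr 1
  by_cases h : m ≤ i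
  · rw [if_pos h, if_pos (by omega)]
  · rw [if_neg h, if_neg (by omega), mul_zero]

theorem TL_single (l m : ℤ) (a b : F) :
    TL k (HahnSeries.single l a) (HahnSeries.single m b) =
      if l + m = 0 then m • Algebra.trace k F (a * b) else 0 := by
  unfold TL tres
  rcases le_or_gt 0 m with hm | hm
  · rw [trFP_of_window _ (Finset.Ico 0 m) (l + m) (b * a)]
    · by_cases h : l + m = 0
      · rw [if_pos h, if_pos h, Int.card_Ico, sub_zero, mul_comm b a]
        have : (m.toNat : ℤ) = m := Int.toNat_of_nonneg hm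
        conv_rhs => rw [← this]
        rw [natCast_zsmul]
      · rw [if_neg h, if_neg h]
    · intro x i
      rw [tN_single_coeff]
      by_cases h0 : 0 ≤ i <;> by_cases h1 : m ≤ i
      · rw [if_pos h0, if_pos h1, sub_self, if_neg (by rw [Finset.mem_Ico]; omega)]
      · rw [if_pos h0, if_neg h1, sub_zero, if_pos (by rw [Finset.mem_Ico]; omega), mul_assoc]
      · omega
      · rw [if_neg h0, if_neg h1, sub_zero, if_neg (by rw [Finset.mem_Ico]; omega)]
  · rw [trFP_of_window _ (Finset.Ico m 0) (l + m) (-(b * a))]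
    · by_cases h : l + m = 0
      · rw [if_pos h, if_pos h, Int.card_Ico, zero_sub, mul_comm b a, map_neg, smul_neg]
        have : ((-m).toNat : ℤ) = -m := Int.toNat_of_nonneg (by omega)
        have h2 : m = -((-m).toNat : ℤ) := by omega
        conv_rhs => rw [h2]
        rw [neg_smul, natCast_zsmul]
      · rw [if_neg h, if_neg h]
    · intro x i
      rw [tN_single_coeff]
      by_cases h0 : 0 ≤ i <;> by_cases h1 : m ≤ i
      · rw [if_pos h0, if_pos h1, sub_self, if_neg (by rw [Finset.mem_Ico]; omega)]
      · omega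
      · rw [if_neg h0, if_pos h1, zero_sub, if_pos (by rw [Finset.mem_Ico]; omega), neg_mul, mul_assoc]
      · rw [if_neg h0, if_neg h1, sub_zero, if_neg (by rw [Finset.mem_Ico]; omega)]

theorem TL_sum_left {ι : Type*} (s : Finset ι) (y : ι → LaurentSeries F) (z : LaurentSeries F) :
    TL k (∑ i ∈ s, y i) z = ∑ i ∈ s, TL k (y i) z := by
  classical
  induction s using Finset.induction_on with
  | empty => simp [TL_zero_left]
  | insert i s hi ih => rw [Finset.sum_insert hi, Finset.sum_insert hi, TL_add_left, ih]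

theorem TL_sum_right {ι : Type*} (s : Finset ι) (y : LaurentSeries F) (z : ι → LaurentSeries F) :
    TL k y (∑ i ∈ s, z i) = ∑ i ∈ s, TL k y (z i) := by
  classical
  induction s using Finset.induction_on with
  | empty => simp [TL_zero_right]
  | insert i s hi ih => rw [Finset.sum_insert hi, Finset.sum_insert hi, TL_add_right, ih]

omit [FiniteDimensional k F] in
theorem RL_sum_left {ι : Type*} (s : Finset ι) (y : ι → LaurentSeries F) (z : LaurentSeries F) :
    RL k (∑ i ∈ s, y i) z = ∑ i ∈ s, RL k (y i) z := by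
  classical
  induction s using Finset.induction_on with
  | empty => simp [RL_zero_left]
  | insert i s hi ih => rw [Finset.sum_insert hi, Finset.sum_insert hi, RL_add_left, ih]

omit [FiniteDimensional k F] in
theorem RL_sum_right {ι : Type*} (s : Finset ι) (y : LaurentSeries F) (z : ι → LaurentSeries F) :
    RL k y (∑ i ∈ s, z i) = ∑ i ∈ s, RL k y (z i) := by
  classical
  induction s using Finset.induction_on with
  | empty => simp [RL_zero_right]
  | insert i s hi ih => rw [Finset.sum_insert hi, Finset.sum_insert hi, RL_add_right, ih]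

/-- the Laurent polynomial part of a series, in the window `[-M, N)` -/
noncomputable def polyPart (M N : ℤ) (x : LaurentSeries F) : LaurentSeries F :=
  ∑ l ∈ Finset.Ico M N, HahnSeries.single l (x.coeff l)

omit [Algebra k F] [FiniteDimensional k F] in
theorem polyPart_coeff (M N : ℤ) (x : LaurentSeries F) (i : ℤ) :
    (polyPart M N x).coeff i = if i ∈ Finset.Ico M N then x.coeff i else 0 := by
  unfold polyPart
  rw [HahnSeries.coeff_sum]
  simp only [HahnSeries.coeff_single]
  by_cases hi : i ∈ Finset.Ico M N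
  · rw [if_pos hi, Finset.sum_eq_single i]
    · rw [if_pos rfl]
    · intro b _ hb
      rw [if_neg (Ne.symm hb)]
    · intro hcon
      exact absurd hi hcon
  · rw [if_neg hi]
    apply Finset.sum_eq_zero
    intro b hb
    rw [if_neg]
    rintro rfl
    exact hi hb

omit [FiniteDimensional k F] in
theorem polyPart_mem (M N : ℤ) (x : LaurentSeries F) : polyPart M N x ∈ Afil k M := by
  intro n hn
  rw [polyPart_coeff, if_neg (by rw [Finset.mem_Ico]; omega)]

omit [FiniteDimensional k F] in
theorem sub_polyPart_mem {M N : ℤ} {x : LaurentSeries F} (hx : x ∈ Afil k M) :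
    x - polyPart M N x ∈ Afil k N := by
  intro n hn
  rw [HahnSeries.coeff_sub, polyPart_coeff]
  by_cases h : M ≤ n
  · rw [if_pos (by rw [Finset.mem_Ico]; omega), sub_self]
  · rw [if_neg (by rw [Finset.mem_Ico]; omega), sub_zero, hx n (by omega)]

/-- **Tate's residue on Laurent series is the residue** -/
theorem TL_eq_RL (y z : LaurentSeries F) : TL k y z = RL k y z := by
  obtain ⟨M₁, hM₁⟩ := exists_mem_Afil (k := k) y
  obtain ⟨M₂, hM₂⟩ := exists_mem_Afil (k := k) z
  obtain ⟨M, hM⟩ : ∃ M : ℕ, M = max M₁ M₂ := ⟨_, rfl⟩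
  have hy : y ∈ Afil k (-(M : ℤ)) := Afil_mono (by omega) hM₁
  have hz : z ∈ Afil k (-(M : ℤ)) := Afil_mono (by omega) hM₂
  obtain ⟨y₀, hy₀⟩ : ∃ y₀, y₀ = polyPart (-(M : ℤ)) (2 * (M : ℤ) + 1) y := ⟨_, rfl⟩
  obtain ⟨z₀, hz₀⟩ : ∃ z₀, z₀ = polyPart (-(M : ℤ)) (2 * (M : ℤ) + 1) z := ⟨_, rfl⟩
  have hy₁ : y - y₀ ∈ Afil k (2 * (M : ℤ) + 1) := by rw [hy₀]; exact sub_polyPart_mem hy
  have hz₁ : z - z₀ ∈ Afil k (2 * (M : ℤ) + 1) := by rw [hz₀]; exact sub_polyPart_mem hz
  have hz₀m : z₀ ∈ Afil k (-(M : ℤ)) := by rw [hz₀]; exact polyPart_mem _ _ _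
  have ey : y = y₀ + (y - y₀) := by abel
  have ez : z = z₀ + (z - z₀) := by abel
  have hT : TL k y z = TL k y₀ z₀ := by
    conv_lhs => rw [ez]
    rw [TL_add_right, TL_eq_zero_right hy hz₁, add_zero]
    conv_lhs => rw [ey]
    rw [TL_add_left, TL_eq_zero_left hy₁ hz₀m, add_zero]
  have hR : RL k y z = RL k y₀ z₀ := by
    conv_lhs => rw [ez]
    rw [RL_add_right, RL_eq_zero_of_mem hy hz₁ (by omega), add_zero]
    conv_lhs => rw [ey]
    rw [RL_add_left, RL_eq_zero_of_mem hy₁ hz₀m (by omega), add_zero]
  rw [hT, hR, hy₀, hz₀]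
  unfold polyPart
  rw [TL_sum_left, RL_sum_left]
  apply Finset.sum_congr rfl
  intro l _
  rw [TL_sum_right, RL_sum_right]
  apply Finset.sum_congr rfl
  intro m _
  rw [TL_single, RL_single]

end Laurent3

end Groth.Agent.Helper9.Tate
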