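import Mathlib
import Groth.Prelude.Def_LocRes
import Groth.Agent.Lib.Helper9.Tate.LaurentC

/-! # Tate's residue at a valuation with an expansion — helper9 -/

namespace Groth.Agent.Helper9.Tate

open Module HahnSeries WithZero

section Pull

variable {k : Type*} [Field k] {V V' : Type*} [AddCommGroup V] [Module k V]
  [AddCommGroup V'] [Module k V']

/-- almost containment pulls back along an injective map -/
theorem Almost.comap (i : V →ₗ[k] V') {A' B' : Submodule k V'}
    (h : Almost B' A') : Almost (B'.comap i) (A'.comap i) := by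
  obtain ⟨W', hfin, hW'⟩ := h
  obtain ⟨W, hWB, hAW, hsup⟩ := exists_compl_in (A'.comap i) (B'.comap i)
  refine ⟨W, ?_, ?_⟩
  · -- `W` embeds into the image of `W'` in `V' ⧸ A'`
    have hmem : ∀ w : W, A'.mkQ (i (w : V)) ∈ W'.map A'.mkQ := by
      intro w
      have h1 : i (w : V) ∈ A' ⊔ W' := hW' (hWB w.2)
      obtain ⟨a, ha, w', hw', hsum⟩ := Submodule.mem_sup.mp h1
      refine ⟨w', hw', ?_⟩
      have ha0 : A'.mkQ a = 0 := by
        rw [Submodule.mkQ_apply]
        exact (Submodule.Quotient.mk_eq_zero A').mpr ha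
      rw [← hsum, map_add, ha0, zero_add]
    let e : W →ₗ[k] (W'.map A'.mkQ) :=
      ((A'.mkQ ∘ₗ i).domRestrict W).codRestrict (W'.map A'.mkQ) hmem
    apply FiniteDimensional.of_injective e
    intro w₁ w₂ h12
    have h2 : A'.mkQ (i ((w₁ : V) - (w₂ : V))) = 0 := by
      have := congrArg Subtype.val h12
      change A'.mkQ (i (w₁ : V)) = A'.mkQ (i (w₂ : V)) at this
      rw [map_sub, map_sub, this, sub_self]
    have h3 : (w₁ : V) - (w₂ : V) ∈ A'.comap i ⊓ W := by
      refine ⟨?_, W.sub_mem w₁.2 w₂.2⟩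
      rw [Submodule.mkQ_apply] at h2
      exact (Submodule.Quotient.mk_eq_zero A').mp h2
    rw [hAW, Submodule.mem_bot, sub_eq_zero] at h3
    exact Subtype.ext h3
  · rw [← hsup]
    exact sup_le (inf_le_left.trans le_sup_left) le_sup_right

end Pull

section Lead

variable {k F : Type*} [Field k] [Field F] [Algebra k F]

theorem sub_single_mem {D : ℤ} {x : LaurentSeries F} (hx : x ∈ Afil k D) :
    x - HahnSeries.single D (x.coeff D) ∈ Afil k (D + 1) := by
  intro n hn
  rw [HahnSeries.coeff_sub, HahnSeries.coeff_single]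
  by_cases h : n = D
  · rw [if_pos h, h, sub_self]
  · rw [if_neg h, sub_zero, hx n (by omega)]

theorem single_mem (D : ℤ) (a : F) : HahnSeries.single D a ∈ Afil k D := by
  intro n hn
  rw [HahnSeries.coeff_single, if_neg (by omega)]

/-- the leading coefficient of a product -/
theorem coeff_mul_of_mem {D E : ℤ} {x y : LaurentSeries F} (hx : x ∈ Afil k D)
    (hy : y ∈ Afil k E) : (x * y).coeff (D + E) = x.coeff D * y.coeff E := by
  obtain ⟨a, ha⟩ : ∃ a : F, a = x.coeff D := ⟨_, rfl⟩
  obtain ⟨b, hb⟩ : ∃ b : F, b = y.coeff E := ⟨_, rfl⟩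
  rw [← ha, ← hb]
  obtain ⟨x', hx'⟩ : ∃ x', x' = x - HahnSeries.single D a := ⟨_, rfl⟩
  obtain ⟨y', hy'⟩ : ∃ y', y' = y - HahnSeries.single E b := ⟨_, rfl⟩
  have hx'm : x' ∈ Afil k (D + 1) := by rw [hx', ha]; exact sub_single_mem hx
  have hy'm : y' ∈ Afil k (E + 1) := by rw [hy', hb]; exact sub_single_mem hy
  have ex : x = HahnSeries.single D a + x' := by rw [hx']; abel
  have ey : y = HahnSeries.single E b + y' := by rw [hy']; abel
  have h1 : x * y = HahnSeries.single (D + E) (a * b) +
      (HahnSeries.single D a * y' + x' * y) := by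
    rw [← HahnSeries.single_mul_single]
    have e3 : x' * y = x' * HahnSeries.single E b + x' * y' := by
      conv_lhs => rw [ey]
      rw [mul_add]
    rw [e3]
    conv_lhs => rw [ex]
    rw [add_mul]
    conv_lhs => rw [ey]
    rw [mul_add, mul_add]
    abel
  have h2 : HahnSeries.single D a * y' + x' * y ∈ Afil k (D + E + 1) := by
    apply Submodule.add_mem
    · have := mul_mem_Afil (single_mem (k := k) D a) hy'm
      rwa [← add_assoc] at this
    · have := mul_mem_Afil hx'm hy
      rwa [add_right_comm] at this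
  rw [h1, HahnSeries.coeff_add, HahnSeries.coeff_single_same, h2 (D + E) (by omega), add_zero]

end Lead

section Place

variable {k K F : Type*} [Field k] [Field K] [Algebra k K] [Field F] [Algebra k F]

/-- an expansion as a `k`-linear map (for the coefficientwise action on Laurent series) -/
noncomputable def expLin (φ : K →ₐ[k] LaurentSeries F) : K →ₗ[k] LaurentSeries F where
  toFun := φ
  map_add' := map_add φ
  map_smul' c x := by
    rw [RingHom.id_apply, Algebra.smul_def, map_mul, LocRes.map_algebraMap, smul_eq_C_mul]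

@[simp] theorem expLin_apply (φ : K →ₐ[k] LaurentSeries F) (x : K) : expLin φ x = φ x := rfl

theorem expLin_injective (φ : K →ₐ[k] LaurentSeries F) : Function.Injective (expLin φ) :=
  (φ : K →+* LaurentSeries F).injective

/-- the valuation ring as a `k`-subspace, defined through the expansion -/
noncomputable def OV (φ : K →ₐ[k] LaurentSeries F) : Submodule k K := (Afil k 0).comap (expLin φ)

theorem mem_OV {w : Valuation K (WithZero (Multiplicative ℤ))} {φ : K →ₐ[k] LaurentSeries F}
    (hφ : LocRes.IsExpansionAt w φ) {x : K} : x ∈ OV φ ↔ w x ≤ 1 := by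
  unfold OV
  rw [Submodule.mem_comap, mem_Afil_iff_val, expLin_apply, hφ.1, neg_zero, exp_zero]

/-- multiplication by an element of `K` -/
noncomputable abbrev mulK (k : Type*) {K : Type*} [Field k] [Field K] [Algebra k K] (f : K) :
    K →ₗ[k] K := LinearMap.mulLeft k f

theorem mulK_comm (f g : K) : mulK k f ∘ₗ mulK k g = mulK k g ∘ₗ mulK k f := by
  ext x
  simp only [LinearMap.comp_apply, LinearMap.mulLeft_apply]
  rw [mul_left_comm]

/-- density: every Laurent series is an expansion up to a power series -/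
theorem exists_sub_mem_Afil {w : Valuation K (WithZero (Multiplicative ℤ))}
    {φ : K →ₐ[k] LaurentSeries F} (hφ : LocRes.IsExpansionAt w φ) (M : ℕ) :
    ∀ s : LaurentSeries F, s ∈ Afil k (-(M : ℤ)) → ∃ x : K, s - φ x ∈ Afil k 0 := by
  obtain ⟨t, ht⟩ := hφ.2.2
  induction M with
  | zero =>
    intro s hs
    refine ⟨0, ?_⟩
    rw [map_zero, sub_zero]
    simpa using hs
  | succ M ih =>
    intro s hs
    -- the element `t ^ (-(M+1))`
    obtain ⟨r, hr⟩ : ∃ r : K, r = (t ^ (M + 1))⁻¹ := ⟨_, rfl⟩
    have hrv : Valued.v (φ r) = exp ((M : ℤ) + 1) := by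
      rw [hφ.1, hr, map_inv₀, map_pow, ht, ← exp_nsmul, ← exp_neg]
      congr 1
      simp
    have hrm : φ r ∈ Afil k (-((M + 1 : ℕ) : ℤ)) := by
      rw [mem_Afil_iff_val, hrv]
      push_cast
      rw [neg_neg]
    have hc : (φ r).coeff (-((M + 1 : ℕ) : ℤ)) ≠ 0 := by
      intro h0
      have h1 : φ r ∈ Afil k (-(M : ℤ)) := by
        intro n hn
        by_cases h : n = -((M + 1 : ℕ) : ℤ)
        · rw [h, h0]
        · apply hrm n
          push_cast at h ⊢
          omega
      rw [mem_Afil_iff_val, hrv, neg_neg, exp_le_exp] at h1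
      omega
    obtain ⟨f, hf1, hf2⟩ := hφ.2.1 (s.coeff (-((M + 1 : ℕ) : ℤ)) / (φ r).coeff (-((M + 1 : ℕ) : ℤ)))
    have hfm : φ f ∈ Afil k 0 := by
      rw [mem_Afil_iff_val, hφ.1, neg_zero, exp_zero]
      exact hf1
    have hprod := coeff_mul_of_mem hfm hrm
    rw [zero_add, hf2, div_mul_cancel₀ _ hc] at hprod
    have hprodm : φ f * φ r ∈ Afil k (-((M + 1 : ℕ) : ℤ)) := by
      have := mul_mem_Afil hfm hrm
      rwa [zero_add] at this
    have hs' : s - φ (f * r) ∈ Afil k (-(M : ℤ)) := by
      rw [map_mul]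
      intro n hn
      rw [HahnSeries.coeff_sub]
      by_cases h : n = -((M + 1 : ℕ) : ℤ)
      · rw [h, hprod, sub_self]
      · rw [hs n (by push_cast at h ⊢; omega), hprodm n (by push_cast at h ⊢; omega), sub_zero]
    obtain ⟨x', hx'⟩ := ih _ hs'
    refine ⟨f * r + x', ?_⟩
    have : s - φ (f * r + x') = s - φ (f * r) - φ x' := by
      rw [map_add]
      abel
    rw [this]
    exact hx'

variable [FiniteDimensional k F]

theorem almost_mulK {φ : K →ₐ[k] LaurentSeries F} (f : K) :
    Almost ((OV φ).map (mulK k f)) (OV φ) := by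
  obtain ⟨M, hM⟩ := exists_mem_Afil (k := k) (φ f)
  have h1 : (OV φ).map (mulK k f) ≤ (Afil k (-(M : ℤ))).comap (expLin φ) := by
    rintro _ ⟨a, ha, rfl⟩
    rw [Submodule.mem_comap, LinearMap.mulLeft_apply, expLin_apply, map_mul]
    have := mul_mem_Afil hM ha
    rwa [add_zero] at this
  exact (Almost.comap (expLin φ) (almost_Afil M)).mono_left h1

/-- **Tate's residue at a valuation with an expansion is the local residue** -/
theorem tres_eq_locRes {w : Valuation K (WithZero (Multiplicative ℤ))}
    {φ : K →ₐ[k] LaurentSeries F} (hφ : LocRes.IsExpansionAt w φ)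
    {π : K →ₗ[k] K} (hπ : LinearMap.IsProj (OV φ) π) (f g : K) :
    tres π (mulK k f) (mulK k g) = LocRes.locRes φ f g := by
  have hsup : LinearMap.range (expLin φ) ⊔ Afil k 0 = ⊤ := by
    rw [eq_top_iff]
    intro s _
    obtain ⟨M, hM⟩ := exists_mem_Afil (k := k) s
    obtain ⟨x, hx⟩ := exists_sub_mem_Afil hφ M s hM
    have : s = φ x + (s - φ x) := by abel
    rw [this]
    exact Submodule.add_mem_sup ⟨x, rfl⟩ hx
  have h := tres_transfer (expLin φ) (expLin_injective φ) (A := OV φ) (A' := Afil k 0) rfl hsup hπ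
    isProj_trunc (f := mulK k f) (g := mulK k g) (f' := mulL k (φ f)) (g' := mulL k (φ g))
    (by ext x; simp) (by ext x; simp) (mulK_comm f g) (mulL_comm _ _)
    (almost_mulK f) (almost_mulK g) (almost_mulL _) (almost_mulL _)
  rw [h]
  exact TL_eq_RL (φ f) (φ g)

end Place

end Groth.Agent.Helper9.Tate
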