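import Mathlib
import Groth.Prelude.Def_LocRes
import Groth.Agent.Lib.Helper9.Tate.Place
import Groth.Agent.Lib.Helper9.FFExt.LocRes1
import Groth.Agent.Lib.Helper9.FFExt.GeoKaehler
import Groth.Agent.Lib.Helper9.FFExt.KaehlerSep

/-! # Local theory of residues through an expansion with general coefficient field — helper9 -/

namespace Groth.Agent.Helper9.Tate

open Module HahnSeries WithZero
open Groth.Agent.Helper9.FFExt

section CoeffDer

variable {k F : Type*} [Field k] [Field F] [Algebra k F]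

/-- the coefficientwise extension of a derivation of the coefficient field -/
noncomputable def cwD (δ : Derivation k F F) (x : LaurentSeries F) : LaurentSeries F :=
  x.map (δ : F →+ F)

@[simp] theorem cwD_coeff (δ : Derivation k F F) (x : LaurentSeries F) (n : ℤ) :
    (cwD δ x).coeff n = δ (x.coeff n) := rfl

theorem cwD_add (δ : Derivation k F F) (x y : LaurentSeries F) :
    cwD δ (x + y) = cwD δ x + cwD δ y := by
  ext n
  simp

theorem cwD_sub (δ : Derivation k F F) (x y : LaurentSeries F) :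
    cwD δ (x - y) = cwD δ x - cwD δ y := by
  ext n
  simp

theorem cwD_support (δ : Derivation k F F) (x : LaurentSeries F) :
    (cwD δ x).support ⊆ x.support := by
  intro n hn
  rw [HahnSeries.mem_support] at hn ⊢
  intro h0
  apply hn
  rw [cwD_coeff, h0, map_zero]

theorem cwD_mul (δ : Derivation k F F) (x y : LaurentSeries F) :
    cwD δ (x * y) = x * cwD δ y + y * cwD δ x := by
  ext n
  rw [cwD_coeff, HahnSeries.coeff_add, HahnSeries.coeff_mul,
    HahnSeries.coeff_mul_right' y.isPWO_support (cwD_support δ y), mul_comm y (cwD δ x),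
    HahnSeries.coeff_mul_left' x.isPWO_support (cwD_support δ x), map_sum, ← Finset.sum_add_distrib]
  apply Finset.sum_congr rfl
  intro ij _
  rw [Derivation.leibniz, cwD_coeff, cwD_coeff, smul_eq_mul, smul_eq_mul, mul_comm (y.coeff ij.2)]

theorem cwD_C (δ : Derivation k F F) (c : F) : cwD δ (HahnSeries.C c) = HahnSeries.C (δ c) := by
  ext n
  rw [cwD_coeff, HahnSeries.C_apply, HahnSeries.C_apply, HahnSeries.coeff_single,
    HahnSeries.coeff_single]
  split_ifs
  · rfl
  · rw [map_zero]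

theorem cwD_single_one (δ : Derivation k F F) (n : ℤ) : cwD δ (HahnSeries.single n (1 : F)) = 0 := by
  ext m
  rw [cwD_coeff, HahnSeries.coeff_single, HahnSeries.coeff_zero]
  split_ifs
  · exact Derivation.map_one_eq_zero δ
  · rw [map_zero]

theorem cwD_mem_Afil (δ : Derivation k F F) {N : ℤ} {x : LaurentSeries F} (hx : x ∈ Afil k N) :
    cwD δ x ∈ Afil k N := by
  intro n hn
  rw [cwD_coeff, hx n hn, map_zero]

end CoeffDer

section Approx

variable {k K F : Type*} [Field k] [Field K] [Algebra k K] [Field F] [Algebra k F]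

/-- approximation of a monomial -/
theorem exists_approx_single {w : Valuation K (WithZero (Multiplicative ℤ))}
    {φ : K →ₐ[k] LaurentSeries F} (hφ : LocRes.IsExpansionAt w φ) (n : ℤ) (c : F) :
    ∃ y : K, w y ≤ exp (-n) ∧ φ y ∈ Afil k n ∧ (φ y).coeff n = c ∧
      φ y - HahnSeries.single n c ∈ Afil k (n + 1) := by
  obtain ⟨t, ht⟩ := hφ.2.2
  obtain ⟨r, hr⟩ : ∃ r : K, r = t ^ n := ⟨_, rfl⟩
  have hrv : w r = exp (-n) := by
    rw [hr, map_zpow₀, ht, ← exp_zsmul, smul_eq_mul, mul_neg, mul_one]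
  have hrφ : Valued.v (φ r) = exp (-n) := by rw [hφ.1, hrv]
  obtain ⟨hr1, hr2⟩ := (val_eq_exp_iff (φ r) n).mp hrφ
  obtain ⟨f, hf1, hf2⟩ := hφ.2.1 (c / (φ r).coeff n)
  have hfA : φ f ∈ Afil k 0 := by
    rw [mem_Afil_iff_val, hφ.1, neg_zero, exp_zero]
    exact hf1
  have hrA : φ r ∈ Afil k n := hr1
  refine ⟨r * f, ?_, ?_, ?_, ?_⟩
  · rw [map_mul, hrv]
    calc exp (-n) * w f ≤ exp (-n) * 1 := mul_le_mul' le_rfl hf1
      _ = _ := mul_one _
  · have := mul_mem_Afil hrA hfA
    rwa [add_zero, ← map_mul] at this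
  · have := coeff_mul_of_mem hrA hfA
    rw [add_zero, ← map_mul] at this
    rw [this, hf2, mul_div_cancel₀ _ hr2]
  · have h1 : φ (r * f) ∈ Afil k n := by
      have := mul_mem_Afil hrA hfA
      rwa [add_zero, ← map_mul] at this
    have h2 : (φ (r * f)).coeff n = c := by
      have := coeff_mul_of_mem hrA hfA
      rw [add_zero, ← map_mul] at this
      rw [this, hf2, mul_div_cancel₀ _ hr2]
    have := sub_single_mem h1
    rwa [h2] at this

/-- density of the image of an expansion -/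
theorem exists_approx {w : Valuation K (WithZero (Multiplicative ℤ))}
    {φ : K →ₐ[k] LaurentSeries F} (hφ : LocRes.IsExpansionAt w φ) (s : LaurentSeries F) (N : ℤ) :
    ∃ y : K, s - φ y ∈ Afil k N := by
  obtain ⟨M, hM⟩ := exists_mem_Afil (k := k) s
  have key : ∀ (j : ℕ) (m : ℤ) (s : LaurentSeries F), s ∈ Afil k m → N - m ≤ j →
      ∃ y : K, s - φ y ∈ Afil k N := by
    intro j
    induction j with
    | zero =>
      intro m s hs hm
      refine ⟨0, ?_⟩
      rw [map_zero, sub_zero]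
      exact Afil_mono (by omega) hs
    | succ j ih =>
      intro m s hs hm
      obtain ⟨y₁, -, -, -, hy₁⟩ := exists_approx_single hφ m (s.coeff m)
      have h1 : s - φ y₁ ∈ Afil k (m + 1) := by
        have e : s - φ y₁ = (s - HahnSeries.single m (s.coeff m)) -
            (φ y₁ - HahnSeries.single m (s.coeff m)) := by abel
        rw [e]
        exact Submodule.sub_mem _ (sub_single_mem hs) hy₁
      obtain ⟨y₂, hy₂⟩ := ih (m + 1) (s - φ y₁) h1 (by push_cast at hm; omega)
      refine ⟨y₁ + y₂, ?_⟩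
      rw [map_add, ← sub_sub]
      exact hy₂
  exact key (N + M).toNat (-(M : ℤ)) s hM (by
    have := Int.self_le_toNat (N + M)
    omega)

theorem eq_zero_of_forall_mem_Afil {s : LaurentSeries F} (h : ∀ N : ℤ, s ∈ Afil k N) : s = 0 := by
  ext n
  rw [HahnSeries.coeff_zero]
  exact h (n + 1) n (by omega)

end Approx

section Sep

variable {k K F : Type*} [Field k] [Field K] [Algebra k K] [Field F] [Algebra k F]

/-- the composite of an expansion with a coefficientwise derivation, as a derivation -/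
noncomputable def cwExp (φ : K →ₐ[k] LaurentSeries F) (δ : Derivation k F F) :
    letI := φ.toRingHom.toAlgebra
    Derivation k K (LaurentSeries F) :=
  letI := φ.toRingHom.toAlgebra
  { toFun := fun a => cwD δ (φ a)
    map_add' := fun a b => show cwD δ (φ (a + b)) = cwD δ (φ a) + cwD δ (φ b) by
      rw [map_add, cwD_add]
    map_smul' := fun c a => show cwD δ (φ (c • a)) = c • cwD δ (φ a) by
      rw [Algebra.smul_def, map_mul, LocRes.map_algebraMap, cwD_mul, cwD_C,
        Derivation.map_algebraMap, map_zero, mul_zero, add_zero, HahnSeries.C_mul_eq_smul,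
        algebraMap_smul]
    map_one_eq_zero' := show cwD δ (φ 1) = 0 by
      rw [map_one]
      exact cwD_single_one δ 0
    leibniz' := fun a b => show cwD δ (φ (a * b)) = φ a * cwD δ (φ b) + φ b * cwD δ (φ a) by
      rw [map_mul, cwD_mul] }

theorem cwD_exp_rel (φ : K →ₐ[k] LaurentSeries F) (δ : Derivation k F F) {x x' u : K}
    (h : KaehlerDifferential.D k K x' = u • KaehlerDifferential.D k K x) :
    cwD δ (φ x') = φ u * cwD δ (φ x) := by
  let _ := φ.toRingHom.toAlgebra
  have _ : IsScalarTower k K (LaurentSeries F) := LocRes.isScalarTower_exp φ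
  have h1 := congrArg ((cwExp φ δ).liftKaehlerDifferential) h
  rw [map_smul, Derivation.liftKaehlerDifferential_comp_D,
    Derivation.liftKaehlerDifferential_comp_D] at h1
  exact h1

theorem D_single_one : LocRes.D F (HahnSeries.single (1 : ℤ) (1 : F)) = 1 := by
  ext n
  rw [LocRes.D_coeff, HahnSeries.coeff_single, HahnSeries.coeff_one]
  by_cases h : n = 0
  · subst h
    simp
  · rw [if_neg (by omega), if_neg h, smul_zero]

/-- the expansion of a uniformizer has a derivative of order `0` -/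
theorem D_exp_uniformizer {w : Valuation K (WithZero (Multiplicative ℤ))}
    {φ : K →ₐ[k] LaurentSeries F} (hφ : LocRes.IsExpansionAt w φ) {t : K}
    (ht : w t = exp (-1 : ℤ)) : Valued.v (LocRes.D F (φ t)) = 1 := by
  have h3 : Valued.v (φ t) = exp (-(1 : ℤ)) := by rw [hφ.1, ht]
  rw [val_eq_exp_iff] at h3
  have : Valued.v (LocRes.D F (φ t)) = exp (-(0 : ℤ)) := by
    rw [val_eq_exp_iff]
    refine ⟨fun m hm => ?_, ?_⟩
    · rw [LocRes.D_coeff, h3.1 (m + 1) (by omega), smul_zero]
    · rw [LocRes.D_coeff, zero_add, one_smul]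
      exact h3.2
  rw [this, neg_zero, exp_zero]

/-- a nonzero differential has a nonzero expansion -/
theorem D_exp_ne_zero (hK : IsFFw k K) (hg : FunFld.IsGeometric k K)
    {w : Valuation K (WithZero (Multiplicative ℤ))}
    {φ : K →ₐ[k] LaurentSeries F} (hφ : LocRes.IsExpansionAt w φ) {x : K}
    (hx : KaehlerDifferential.D k K x ≠ 0) : LocRes.D F (φ x) ≠ 0 := by
  obtain ⟨t, ht⟩ := hφ.2.2
  obtain ⟨u, hu⟩ := exists_eq_smul_D_of_ne_zero hK hg hx (KaehlerDifferential.D k K t)
  have h1 := D_exp_rel φ hu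
  have h2 := D_exp_uniformizer hφ ht
  intro h0
  rw [h1, h0, mul_zero, map_zero] at h2
  exact zero_ne_one h2

/-- **the coefficient field of an expansion of a geometric function field is separable** -/
theorem isSeparable_coeff [FiniteDimensional k F] (hK : IsFFw k K) (hg : FunFld.IsGeometric k K)
    {w : Valuation K (WithZero (Multiplicative ℤ))}
    {φ : K →ₐ[k] LaurentSeries F} (hφ : LocRes.IsExpansionAt w φ) : Algebra.IsSeparable k F := by
  by_contra hns
  have hnu : ¬ Algebra.FormallyUnramified k F := by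
    intro h
    exact hns ((Algebra.FormallyUnramified.iff_isSeparable k F).mp h)
  rw [Algebra.formallyUnramified_iff, not_subsingleton_iff_nontrivial] at hnu
  -- a nonzero derivation of `F`
  obtain ⟨c, hc⟩ : ∃ c : F, KaehlerDifferential.D k F c ≠ 0 := by
    by_contra hall
    push Not at hall
    have : (⊤ : Submodule F (Ω[F⁄k])) = ⊥ := by
      rw [← KaehlerDifferential.span_range_derivation, Submodule.span_eq_bot]
      rintro _ ⟨c, rfl⟩
      exact hall c
    obtain ⟨a, ha⟩ := exists_ne (0 : Ω[F⁄k])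
    apply ha
    have h1 : a ∈ (⊤ : Submodule F (Ω[F⁄k])) := Submodule.mem_top
    rw [this, Submodule.mem_bot] at h1
    exact h1
  obtain ⟨ℓ, hℓ⟩ : ∃ ℓ : Ω[F⁄k] →ₗ[F] F, ℓ (KaehlerDifferential.D k F c) ≠ 0 := by
    by_contra hall
    push Not at hall
    exact hc ((Module.forall_dual_apply_eq_zero_iff F _).mp hall)
  obtain ⟨δ, hδ⟩ : ∃ δ : Derivation k F F, δ c ≠ 0 :=
    ⟨ℓ.compDer (KaehlerDifferential.D k F), hℓ⟩
  -- a separating variable
  obtain ⟨x, hxt, hxs⟩ := exists_separating_of_isGeometric hK hg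
  have hx : KaehlerDifferential.D k K x ≠ 0 := D_ne_zero_of_isSeparable k K hxt
  obtain ⟨s₀, hs₀⟩ : ∃ s₀, s₀ = cwD δ (φ x) := ⟨_, rfl⟩
  obtain ⟨s₁, hs₁⟩ : ∃ s₁, s₁ = LocRes.D F (φ x) := ⟨_, rfl⟩
  have hs₁0 : s₁ ≠ 0 := by
    rw [hs₁]
    exact D_exp_ne_zero hK hg hφ hx
  have hrel : ∀ y : K, s₁ * cwD δ (φ y) - s₀ * LocRes.D F (φ y) = 0 := by
    intro y
    obtain ⟨u, hu⟩ := exists_eq_smul_D_of_ne_zero hK hg hx (KaehlerDifferential.D k K y)
    rw [cwD_exp_rel φ δ hu, D_exp_rel φ hu, ← hs₀, ← hs₁]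
    ring
  obtain ⟨M₀, hM₀⟩ := exists_mem_Afil (k := k) s₀
  obtain ⟨M₁, hM₁⟩ := exists_mem_Afil (k := k) s₁
  have hall : ∀ s : LaurentSeries F, s₁ * cwD δ s - s₀ * LocRes.D F s = 0 := by
    intro s
    apply eq_zero_of_forall_mem_Afil (k := k)
    intro N
    obtain ⟨y, hy⟩ := exists_approx hφ s (N + M₀ + M₁ + 1)
    have e : s₁ * cwD δ s - s₀ * LocRes.D F s =
        s₁ * cwD δ (s - φ y) - s₀ * LocRes.D F (s - φ y) := by
      have := hrel y
      rw [cwD_sub, map_sub]
      linear_combination this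
    rw [e]
    apply Submodule.sub_mem
    · exact Afil_mono (by omega) (mul_mem_Afil hM₁ (cwD_mem_Afil δ hy))
    · exact Afil_mono (by omega) (mul_mem_Afil hM₀ (D_mem_Afil hy))
  have h1 := hall (HahnSeries.single (1 : ℤ) (1 : F))
  rw [cwD_single_one, mul_zero, zero_sub, D_single_one, mul_one, neg_eq_zero] at h1
  have h2 := hall (HahnSeries.C c)
  rw [h1, zero_mul, sub_zero, cwD_C] at h2
  rcases mul_eq_zero.mp h2 with h3 | h3
  · exact hs₁0 h3
  · exact hδ (HahnSeries.C_injective (by rw [h3, map_zero]))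

end Sep

section LocalRes

variable {k K F : Type*} [Field k] [Field K] [Algebra k K] [Field F] [Algebra k F]

theorem D_mem_Afil_zero {z : LaurentSeries F} (hz : z ∈ Afil k 0) : LocRes.D F z ∈ Afil k 0 := by
  intro n hn
  rw [LocRes.D_coeff]
  by_cases h : n + 1 < 0
  · rw [hz (n + 1) h, smul_zero]
  · have : n + 1 = 0 := by omega
    rw [this, zero_smul]

theorem vDiff_le_one_of_le {w : Valuation K (WithZero (Multiplicative ℤ))}
    {φ : K →ₐ[k] LaurentSeries F} (hφ : LocRes.IsExpansionAt w φ) {y v : K} (hy : w y ≤ 1)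
    (hv : w v ≤ 1) : LocRes.vDiff φ y v ≤ 1 := by
  unfold LocRes.vDiff
  have h1 : φ y ∈ Afil k 0 := by
    rw [mem_Afil_iff_val, hφ.1, neg_zero, exp_zero]
    exact hy
  have h2 : φ v ∈ Afil k 0 := by
    rw [mem_Afil_iff_val, hφ.1, neg_zero, exp_zero]
    exact hv
  have h3 := mul_mem_Afil h1 (D_mem_Afil_zero h2)
  rw [mem_Afil_iff_val, add_zero, neg_zero, exp_zero] at h3
  exact h3

theorem resExp_eq_zero_of_vDiff_le {φ : K →ₐ[k] LaurentSeries F} {y v : K}
    (h : LocRes.vDiff φ y v ≤ 1) : LocRes.resExp φ y v = 0 := by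
  unfold LocRes.vDiff at h
  unfold LocRes.resExp
  rw [LocRes.res_apply]
  have h1 : φ y * LocRes.D F (φ v) ∈ Afil k 0 := by
    rw [mem_Afil_iff_val, neg_zero, exp_zero]
    exact h
  exact h1 (-1) (by omega)

theorem locRes_eq_zero_of_vDiff_le {φ : K →ₐ[k] LaurentSeries F} {y v : K}
    (h : LocRes.vDiff φ y v ≤ 1) : LocRes.locRes φ y v = 0 := by
  unfold LocRes.locRes
  rw [resExp_eq_zero_of_vDiff_le h, map_zero]

theorem locRes_eq_zero_of_le {w : Valuation K (WithZero (Multiplicative ℤ))}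
    {φ : K →ₐ[k] LaurentSeries F} (hφ : LocRes.IsExpansionAt w φ) {y v : K} (hy : w y ≤ 1)
    (hv : w v ≤ 1) : LocRes.locRes φ y v = 0 :=
  locRes_eq_zero_of_vDiff_le (vDiff_le_one_of_le hφ hy hv)

theorem resExp_add_left (φ : K →ₐ[k] LaurentSeries F) (y y' v : K) :
    LocRes.resExp φ (y + y') v = LocRes.resExp φ y v + LocRes.resExp φ y' v := by
  unfold LocRes.resExp
  rw [map_add, add_mul, map_add]

theorem locRes_add_left (φ : K →ₐ[k] LaurentSeries F) (y y' v : K) :
    LocRes.locRes φ (y + y') v = LocRes.locRes φ y v + LocRes.locRes φ y' v := by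
  unfold LocRes.locRes
  rw [resExp_add_left, map_add]

theorem resExp_smul_left (φ : K →ₐ[k] LaurentSeries F) (c : k) (y v : K) :
    LocRes.resExp φ (c • y) v = c • LocRes.resExp φ y v := by
  unfold LocRes.resExp
  rw [Algebra.smul_def, map_mul φ, LocRes.map_algebraMap, mul_assoc, HahnSeries.C_mul_eq_smul,
    map_smul, algebraMap_smul]

theorem locRes_smul_left (φ : K →ₐ[k] LaurentSeries F) (c : k) (y v : K) :
    LocRes.locRes φ (c • y) v = c * LocRes.locRes φ y v := by
  unfold LocRes.locRes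
  rw [resExp_smul_left, map_smul, smul_eq_mul]

theorem vDiff_mul_left {w : Valuation K (WithZero (Multiplicative ℤ))}
    {φ : K →ₐ[k] LaurentSeries F} (hφ : LocRes.IsExpansionAt w φ) (a u v : K) :
    LocRes.vDiff φ (a * u) v = w a * LocRes.vDiff φ u v := by
  unfold LocRes.vDiff
  rw [map_mul φ, mul_assoc, Valuation.map_mul, hφ.1]

theorem vDiff_ne_zero_gen (hK : IsFFw k K) (hg : FunFld.IsGeometric k K)
    {w : Valuation K (WithZero (Multiplicative ℤ))}
    {φ : K →ₐ[k] LaurentSeries F} (hφ : LocRes.IsExpansionAt w φ) {u v : K} (hu : u ≠ 0)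
    (hv : KaehlerDifferential.D k K v ≠ 0) : LocRes.vDiff φ u v ≠ 0 := by
  unfold LocRes.vDiff
  rw [Valuation.ne_zero_iff]
  apply mul_ne_zero
  · rw [Ne, map_eq_zero_iff φ (φ : K →+* LaurentSeries F).injective]
    exact hu
  · exact D_exp_ne_zero hK hg hφ hv

theorem vDiff_eq_exp_ordDiff {φ : K →ₐ[k] LaurentSeries F} {u v : K}
    (h : LocRes.vDiff φ u v ≠ 0) : LocRes.vDiff φ u v = exp (-LocRes.ordDiff φ u v) := by
  unfold LocRes.ordDiff
  rw [neg_neg, exp_log h]

/-- at a pole of the differential (relative to the allowed order) some residue is nonzero -/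
theorem exists_locRes_ne_zero [FiniteDimensional k F] (hK : IsFFw k K)
    (hg : FunFld.IsGeometric k K) {w : Valuation K (WithZero (Multiplicative ℤ))}
    {φ : K →ₐ[k] LaurentSeries F} (hφ : LocRes.IsExpansionAt w φ) {u v : K} (hu : u ≠ 0)
    (hv : KaehlerDifferential.D k K v ≠ 0) (E : ℤ) (hE : LocRes.ordDiff φ u v < E) :
    ∃ y : K, w y ≤ exp E ∧ LocRes.locRes φ (y * u) v ≠ 0 := by
  have := isSeparable_coeff hK hg hφ
  obtain ⟨c₀, hc₀⟩ := Algebra.trace_surjective k F 1
  obtain ⟨s, hs⟩ : ∃ s, s = φ u * LocRes.D F (φ v) := ⟨_, rfl⟩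
  obtain ⟨m, hm⟩ : ∃ m, m = LocRes.ordDiff φ u v := ⟨_, rfl⟩
  have hsv : Valued.v s = exp (-m) := by
    rw [hs, hm]
    exact vDiff_eq_exp_ordDiff (vDiff_ne_zero_gen hK hg hφ hu hv)
  obtain ⟨hs1, hs2⟩ := (val_eq_exp_iff s m).mp hsv
  obtain ⟨y, hy1, hy2, hy3, -⟩ := exists_approx_single (k := k) hφ (-1 - m) (c₀ / s.coeff m)
  refine ⟨y, hy1.trans ?_, ?_⟩
  · rw [exp_le_exp]
    omega
  · unfold LocRes.locRes LocRes.resExp
    rw [LocRes.res_apply, map_mul, mul_assoc, ← hs]
    have h1 := coeff_mul_of_mem (k := k) hy2 (show s ∈ Afil k m from hs1)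
    have e : -1 - m + m = -1 := by ring
    rw [e] at h1
    rw [h1, hy3, div_mul_cancel₀ _ hs2, hc₀]
    exact one_ne_zero

end LocalRes

end Groth.Agent.Helper9.Tate
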