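import Mathlib
import Groth.Prelude.Def_W4bk4goldsch23FF
import Groth.Agent.Lib.Helper9.Tate.Place
import Groth.Agent.Lib.Helper4.FF.Adele
import Groth.Agent.Lib.Helper4.FF.Weil
/-! # The residue theorem in Tate's form, on the repartition space — helper9 -/

namespace Groth.Agent.Helper9.Tate

open Module WithZero FunFld
open Groth.Agent.Lib.Helper4.FF

section Adelic

variable {k K : Type*} [Field k] [Field K] [Algebra k K]

/-- the valuation ring of a place as a `k`-subspace -/
def OPl (P : Place k K) : Submodule k K where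
  carrier := {x | P.1 x ≤ 1}
  add_mem' := by
    intro x y hx hy
    exact (P.1.map_add x y).trans (max_le hx hy)
  zero_mem' := by
    change P.1 0 ≤ 1
    rw [map_zero]
    exact zero_le_one
  smul_mem' := by
    intro c x hx
    change P.1 (c • x) ≤ 1
    rw [Algebra.smul_def, map_mul]
    exact mul_le_one' (P.2.1 c) hx

theorem mem_OPl {P : Place k K} {x : K} : x ∈ OPl P ↔ P.1 x ≤ 1 := Iff.rfl

/-- integral repartitions -/
def A0 (k K : Type*) [Field k] [Field K] [Algebra k K] : Submodule k (adele k K) :=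
  (AD (0 : Divisor k K)).comap (adele k K).subtype

theorem mem_A0 {a : adele k K} : a ∈ A0 k K ↔ ∀ P : Place k K, P.1 (a.1 P) ≤ 1 := by
  unfold A0
  rw [Submodule.mem_comap]
  change (∀ P : Place k K, P.1 (a.1 P) ≤ exp ((0 : Divisor k K) P)) ↔ _
  simp only [Finsupp.coe_zero, Pi.zero_apply, exp_zero]

/-- the principal repartitions -/
def BK (k K : Type*) [Field k] [Field K] [Algebra k K] : Submodule k (adele k K) :=
  (LinearMap.range (diag k K)).comap (adele k K).subtype

theorem mem_BK {a : adele k K} : a ∈ BK k K ↔ ∃ x : K, ∀ P : Place k K, a.1 P = x := by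
  unfold BK
  rw [Submodule.mem_comap, LinearMap.mem_range]
  constructor
  · rintro ⟨x, hx⟩
    refine ⟨x, fun P => ?_⟩
    have := congrFun hx P
    exact this.symm
  · rintro ⟨x, hx⟩
    refine ⟨x, ?_⟩
    funext P
    exact (hx P).symm

/-- multiplication by an element of `K` on repartitions -/
noncomputable def mulA (hK : IsFunctionField k K) (x : K) : adele k K →ₗ[k] adele k K where
  toFun a := ⟨x • (a : Place k K → K), smul_mem_adele hK x a a.2⟩
  map_add' := by
    intro a b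
    apply Subtype.ext
    funext P
    change x * (a.1 P + b.1 P) = x * a.1 P + x * b.1 P
    rw [mul_add]
  map_smul' := by
    intro c a
    apply Subtype.ext
    funext P
    change x * (c • a.1 P) = c • (x * a.1 P)
    rw [mul_smul_comm]

theorem mulA_apply (hK : IsFunctionField k K) (x : K) (a : adele k K) (P : Place k K) :
    (mulA hK x a).1 P = x * a.1 P := rfl

theorem mulA_comm (hK : IsFunctionField k K) (f g : K) :
    mulA hK f ∘ₗ mulA hK g = mulA hK g ∘ₗ mulA hK f := by
  ext a P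
  change f * (g * a.1 P) = g * (f * a.1 P)
  rw [mul_left_comm]

/-- componentwise projection -/
noncomputable def piA (π : Place k K → (K →ₗ[k] K))
    (hπ : ∀ (P : Place k K) (x : K), P.1 (π P x) ≤ 1) :
    adele k K →ₗ[k] adele k K where
  toFun a := ⟨fun P => π P (a.1 P), AD_le_adele 0 (fun P => by
    simp only [Finsupp.coe_zero, Pi.zero_apply, exp_zero]
    exact hπ P _)⟩
  map_add' := by
    intro a b
    apply Subtype.ext
    funext P
    change π P (a.1 P + b.1 P) = π P (a.1 P) + π P (b.1 P)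
    rw [map_add]
  map_smul' := by
    intro c a
    apply Subtype.ext
    funext P
    change π P (c • a.1 P) = c • π P (a.1 P)
    rw [map_smul]

theorem piA_apply (π : Place k K → (K →ₗ[k] K))
    (hπ : ∀ (P : Place k K) (x : K), P.1 (π P x) ≤ 1)
    (a : adele k K) (P : Place k K) : (piA π hπ a).1 P = π P (a.1 P) := rfl

theorem isProj_piA (π : Place k K → (K →ₗ[k] K)) (hπ : ∀ P, LinearMap.IsProj (OPl P) (π P)) :
    LinearMap.IsProj (A0 k K) (piA π (fun P x => (hπ P).map_mem x)) := by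
  constructor
  · intro a
    rw [mem_A0]
    intro P
    exact (hπ P).map_mem _
  · intro a ha
    rw [mem_A0] at ha
    apply Subtype.ext
    funext P
    exact (hπ P).map_id _ (ha P)

/-- the `P`-component -/
def evP (P : Place k K) : adele k K →ₗ[k] K where
  toFun a := a.1 P
  map_add' _ _ := rfl
  map_smul' _ _ := rfl

open Classical in
/-- the repartition concentrated at `P` -/
noncomputable def inP (P : Place k K) : K →ₗ[k] adele k K where
  toFun x := ⟨Pi.single P x, by
    rw [mem_adele]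
    apply (Set.finite_singleton P).subset
    intro Q hQ
    rw [Set.mem_singleton_iff]
    by_contra hne
    apply hQ
    rw [Pi.single_eq_of_ne hne, map_zero]
    exact zero_le_one⟩
  map_add' := by
    intro x y
    apply Subtype.ext
    exact Pi.single_add (f := fun _ : Place k K => K) P x y
  map_smul' := by
    intro c x
    apply Subtype.ext
    exact Pi.single_smul (f := fun _ : Place k K => K) P c x

theorem evP_inP (P : Place k K) (x : K) : evP P (inP P x) = x := by
  classical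
  change (Pi.single P x : Place k K → K) P = x
  rw [Pi.single_eq_same]

theorem inP_apply_ne {P Q : Place k K} (h : Q ≠ P) (x : K) : (inP P x).1 Q = 0 := by
  classical
  change (Pi.single P x : Place k K → K) Q = 0
  rw [Pi.single_eq_of_ne h]

theorem inP_apply_same (P : Place k K) (x : K) : (inP P x).1 P = x := evP_inP P x

end Adelic

section Glob2

variable {k K : Type*} [Field k] [Field K] [Algebra k K]

theorem almost_mulA (hK : IsFunctionField k K) (x : K) :
    Almost ((A0 k K).map (mulA hK x)) (A0 k K) := by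
  obtain ⟨d, -, W, hWfin, -, -, hW⟩ := isRelDim_AD hK (poleDiv_nonneg (k := k) x)
  have h1 : Almost (AD (poleDiv x : Divisor k K)) (AD 0) := ⟨W, hWfin, hW.ge⟩
  have h2 := Almost.comap (adele k K).subtype h1
  refine h2.mono_left ?_
  rintro _ ⟨a, ha0, rfl⟩
  have ha : ∀ P : Place k K, P.1 (a.1 P) ≤ 1 := mem_A0.mp ha0
  rw [Submodule.mem_comap]
  intro P
  change P.1 (x * a.1 P) ≤ _
  rw [map_mul]
  calc P.1 x * P.1 (a.1 P) ≤ exp ((poleDiv x : Divisor k K) P) * 1 :=
        mul_le_mul' (val_le_exp_poleDiv hK x P) (ha P)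
    _ = _ := mul_one _

theorem BK_map_mulA (hK : IsFunctionField k K) (x : K) : (BK k K).map (mulA hK x) ≤ BK k K := by
  rintro _ ⟨a, ha, rfl⟩
  obtain ⟨y, hy⟩ := mem_BK.mp ha
  rw [mem_BK]
  refine ⟨x * y, fun P => ?_⟩
  rw [mulA_apply, hy]

theorem finite_A0_inf_BK (hK : IsFunctionField k K) :
    FiniteDimensional k (A0 k K ⊓ BK k K : Submodule k (adele k K)) := by
  have hone : (diag k K (1 : K)) ∈ adele k K := range_diag_le_adele hK ⟨1, rfl⟩
  have hle : A0 k K ⊓ BK k K ≤ Submodule.span k {(⟨diag k K 1, hone⟩ : adele k K)} := by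
    rintro a ⟨ha0, hb⟩
    have ha : ∀ P : Place k K, P.1 (a.1 P) ≤ 1 := mem_A0.mp ha0
    obtain ⟨x, hx⟩ := mem_BK.mp hb
    have hxL : x ∈ L (0 : Divisor k K) := by
      intro P
      simp only [Finsupp.coe_zero, Pi.zero_apply, exp_zero]
      rw [← hx P]
      exact ha P
    rw [L_zero hK, Submodule.mem_one] at hxL
    obtain ⟨c, rfl⟩ := hxL
    rw [Submodule.mem_span_singleton]
    refine ⟨c, ?_⟩
    apply Subtype.ext
    funext P
    change c • (1 : K) = a.1 P
    rw [hx P, Algebra.algebraMap_eq_smul_one]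
  exact Submodule.finiteDimensional_of_le hle

theorem exists_compl_A0_BK (hK : IsFunctionField k K) :
    ∃ D : Submodule k (adele k K), FiniteDimensional k D ∧ A0 k K ⊔ BK k K ⊔ D = ⊤ := by
  obtain ⟨e, -, W, hWfin, -, -, hW⟩ := isRelDim_adele hK (0 : Divisor k K)
  have hWle : W ≤ adele k K := hW ▸ le_sup_right
  refine ⟨W.comap (adele k K).subtype, ?_, ?_⟩
  · exact Module.Finite.equiv (Submodule.comapSubtypeEquivOfLe hWle).symm
  · rw [eq_top_iff]
    rintro ⟨a, ha⟩ -
    have ha' := ha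
    rw [← hW] at ha'
    obtain ⟨b, hb, w, hw, hsum⟩ := Submodule.mem_sup.mp ha'
    obtain ⟨a₀, ha₀, d, hd, hsum2⟩ := Submodule.mem_sup.mp hb
    have e1 : (⟨a, ha⟩ : adele k K) = ⟨a₀, AD_le_adele 0 ha₀⟩ + ⟨d, range_diag_le_adele hK hd⟩ +
        ⟨w, hWle hw⟩ := by
      apply Subtype.ext
      change a = a₀ + d + w
      rw [hsum2, hsum]
    rw [e1]
    refine Submodule.add_mem_sup (Submodule.add_mem_sup ?_ ?_) ?_
    · exact ha₀
    · exact hd
    · exact hw

/-- **the global residue vanishes** -/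
theorem tres_adele_eq_zero (hK : IsFunctionField k K) (π : Place k K → (K →ₗ[k] K))
    (hπ : ∀ P, LinearMap.IsProj (OPl P) (π P)) (f g : K) :
    tres (piA π (fun P x => (hπ P).map_mem x)) (mulA hK f) (mulA hK g) = 0 := by
  have := finite_A0_inf_BK hK
  obtain ⟨D, hDfin, hD⟩ := exists_compl_A0_BK hK
  exact tres_eq_zero_of_global (isProj_piA π hπ) (mulA_comm hK f g) (almost_mulA hK f)
    (almost_mulA hK g) (BK_map_mulA hK f) (BK_map_mulA hK g) D hD

end Glob2

section Gen

variable {k : Type*} [Field k] {V : Type*} [AddCommGroup V] [Module k V]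

theorem E0_sub_mem {A : Submodule k V} {θ₁ θ₂ : V →ₗ[k] V} (h₁ : θ₁ ∈ E0 A) (h₂ : θ₂ ∈ E0 A) :
    θ₁ - θ₂ ∈ E0 A := (E0 A).sub_mem h₁ h₂

end Gen

section Decomp

variable {k K : Type*} [Field k] [Field K] [Algebra k K]

theorem map_evP_A0 (P : Place k K) : (A0 k K).map (evP P) ≤ OPl P := by
  rintro _ ⟨a, ha, rfl⟩
  exact (mem_A0.mp ha) P

theorem map_inP_OPl (P : Place k K) : (OPl P).map (inP P) ≤ A0 k K := by
  rintro _ ⟨x, hx, rfl⟩
  rw [mem_A0]
  intro Q
  by_cases h : Q = P
  · subst h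
    rw [inP_apply_same]
    exact hx
  · rw [inP_apply_ne h, map_zero]
    exact zero_le_one

theorem almost_mulK_OPl (hK : IsFunctionField k K) (P : Place k K) (f : K) :
    Almost ((OPl P).map (mulK k f)) (OPl P) := by
  obtain ⟨W, hWfin, hW⟩ := almost_mulA hK f
  refine ⟨W.map (evP P), inferInstance, ?_⟩
  rintro _ ⟨x, hx, rfl⟩
  have h1 : mulA hK f (inP P x) ∈ A0 k K ⊔ W :=
    hW ⟨inP P x, map_inP_OPl P ⟨x, hx, rfl⟩, rfl⟩
  obtain ⟨a, ha, w, hw, hsum⟩ := Submodule.mem_sup.mp h1
  have h2 : mulK k f x = evP P a + evP P w := by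
    rw [← map_add, hsum]
    change f * x = f * (inP P x).1 P
    rw [inP_apply_same]
  rw [h2]
  exact Submodule.add_mem_sup (map_evP_A0 P ⟨a, ha, rfl⟩) ⟨w, hw, rfl⟩

/-- the local operator -/
noncomputable abbrev NP (π : Place k K → (K →ₗ[k] K)) (f g : K) (P : Place k K) : K →ₗ[k] K :=
  tN (π P) (mulK k f) (mulK k g)

theorem NP_mem_E0 (hK : IsFunctionField k K) (π : Place k K → (K →ₗ[k] K))
    (hπ : ∀ P, LinearMap.IsProj (OPl P) (π P)) (f g : K) (P : Place k K) :
    NP π f g P ∈ E0 (OPl P) :=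
  tN_mem_E0 (hπ P) (almost_mulK_OPl hK P f) (almost_mulK_OPl hK P g)

theorem tN_adele_apply (hK : IsFunctionField k K) (π : Place k K → (K →ₗ[k] K))
    (hπ : ∀ (P : Place k K) (x : K), P.1 (π P x) ≤ 1) (f g : K) (a : adele k K) (Q : Place k K) :
    (tN (piA π hπ) (mulA hK f) (mulA hK g) a).1 Q = NP π f g Q (a.1 Q) := rfl

/-- the local piece of the global operator -/
noncomputable def MP (π : Place k K → (K →ₗ[k] K)) (f g : K) (P : Place k K) :
    adele k K →ₗ[k] adele k K := inP P ∘ₗ (NP π f g P ∘ₗ evP P)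

theorem MP_apply_same (π : Place k K → (K →ₗ[k] K)) (f g : K) (P : Place k K) (a : adele k K) :
    (MP π f g P a).1 P = NP π f g P (a.1 P) := inP_apply_same P _

theorem MP_apply_ne (π : Place k K → (K →ₗ[k] K)) (f g : K) {P Q : Place k K} (h : Q ≠ P)
    (a : adele k K) : (MP π f g P a).1 Q = 0 := inP_apply_ne h _

theorem MP_mem_E0 (hK : IsFunctionField k K) (π : Place k K → (K →ₗ[k] K))
    (hπ : ∀ P, LinearMap.IsProj (OPl P) (π P)) (f g : K) (P : Place k K) :
    MP π f g P ∈ E0 (A0 k K) := by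
  obtain ⟨⟨W, hWfin, hW⟩, h2⟩ := NP_mem_E0 hK π hπ f g P
  have hfin := h2.finite_of_bot
  constructor
  · refine ⟨W.map (inP P), inferInstance, ?_⟩
    rintro _ ⟨a, rfl⟩
    have h1 : NP π f g P (a.1 P) ∈ OPl P ⊔ W := hW ⟨a.1 P, rfl⟩
    obtain ⟨x, hx, w, hw, hsum⟩ := Submodule.mem_sup.mp h1
    have : MP π f g P a = inP P x + inP P w := by
      rw [← map_add, hsum]
      rfl
    rw [this]
    exact Submodule.add_mem_sup (map_inP_OPl P ⟨x, hx, rfl⟩) ⟨w, hw, rfl⟩
  · refine ⟨((OPl P).map (NP π f g P)).map (inP P), inferInstance, ?_⟩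
    rw [bot_sup_eq]
    rintro _ ⟨a, ha, rfl⟩
    exact ⟨NP π f g P (a.1 P), ⟨a.1 P, map_evP_A0 P ⟨a, ha, rfl⟩, rfl⟩, rfl⟩

theorem trFP_MP (hK : IsFunctionField k K) (π : Place k K → (K →ₗ[k] K))
    (hπ : ∀ P, LinearMap.IsProj (OPl P) (π P)) (f g : K) (P : Place k K) :
    trFP (MP π f g P) = tres (π P) (mulK k f) (mulK k g) := by
  have e : (NP π f g P ∘ₗ evP P) ∘ₗ inP P = NP π f g P := by
    ext x
    simp only [LinearMap.comp_apply]
    rw [evP_inP]
  unfold MP
  rw [trFP_comp_comm (inP P) (NP π f g P ∘ₗ evP P), e]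
  · rfl
  · rw [e]
    exact isFinPot_of_mem_E0 (NP_mem_E0 hK π hπ f g P)

/-- at a place where `f` and `g` are integral, the local operator has square zero -/
theorem NP_sq_zero (π : Place k K → (K →ₗ[k] K))
    (hπ : ∀ P, LinearMap.IsProj (OPl P) (π P)) (f g : K) (Q : Place k K)
    (hf : Q.1 f ≤ 1) (hg : Q.1 g ≤ 1) (x : K) : NP π f g Q (NP π f g Q x) = 0 := by
  have hmul : ∀ {c y : K}, Q.1 c ≤ 1 → y ∈ OPl Q → c * y ∈ OPl Q := by
    intro c y hc hy
    rw [mem_OPl, map_mul]
    exact mul_le_one' hc hy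
  have h1 : ∀ y : K, NP π f g Q y ∈ OPl Q := by
    intro y
    rw [tN_apply]
    exact Submodule.sub_mem _ ((hπ Q).map_mem _) (hmul hg ((hπ Q).map_mem _))
  have h2 : ∀ y ∈ OPl Q, NP π f g Q y = 0 := by
    intro y hy
    rw [tN_apply]
    simp only [LinearMap.mulLeft_apply]
    rw [(hπ Q).map_id _ (hmul hf hy), (hπ Q).map_id _ (hmul hg (hmul hf hy)), sub_self]
  exact h2 _ (h1 x)

/-- **the sum of the local Tate residues vanishes** -/
theorem sum_tres_eq_zero (hK : IsFunctionField k K) (π : Place k K → (K →ₗ[k] K))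
    (hπ : ∀ P, LinearMap.IsProj (OPl P) (π P)) (f g : K) (S : Finset (Place k K))
    (hS : ∀ Q : Place k K, Q ∉ S → Q.1 f ≤ 1 ∧ Q.1 g ≤ 1) :
    ∑ P ∈ S, tres (π P) (mulK k f) (mulK k g) = 0 := by
  classical
  have hπ' : ∀ (P : Place k K) (x : K), P.1 (π P x) ≤ 1 := fun P x => (hπ P).map_mem x
  obtain ⟨N, hN⟩ : ∃ N, N = tN (piA π hπ') (mulA hK f) (mulA hK g) := ⟨_, rfl⟩
  have hNE : N ∈ E0 (A0 k K) := by
    rw [hN]
    exact tN_mem_E0 (isProj_piA π hπ) (almost_mulA hK f) (almost_mulA hK g)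
  have hME : ∀ P ∈ S, MP π f g P ∈ E0 (A0 k K) := fun P _ => MP_mem_E0 hK π hπ f g P
  have hsumE : ∑ P ∈ S, MP π f g P ∈ E0 (A0 k K) := (E0 (A0 k K)).sum_mem hME
  obtain ⟨R, hR⟩ : ∃ R, R = N - ∑ P ∈ S, MP π f g P := ⟨_, rfl⟩
  have hRE : R ∈ E0 (A0 k K) := by
    rw [hR]
    exact E0_sub_mem hNE hsumE
  have hsum_apply : ∀ (a : adele k K) (Q : Place k K),
      ((∑ P ∈ S, MP π f g P) a).1 Q = if Q ∈ S then NP π f g Q (a.1 Q) else 0 := by
    intro a Q
    rw [LinearMap.sum_apply]
    have : ((∑ P ∈ S, MP π f g P a : adele k K)).1 Q = ∑ P ∈ S, (MP π f g P a).1 Q := by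
      rw [AddSubmonoidClass.coe_finsetSum, Finset.sum_apply]
    rw [this]
    split_ifs with hQ
    · rw [Finset.sum_eq_single Q]
      · exact MP_apply_same π f g Q a
      · intro P _ hne
        exact MP_apply_ne π f g hne.symm a
      · intro h
        exact absurd hQ h
    · apply Finset.sum_eq_zero
      intro P hP
      apply MP_apply_ne
      rintro rfl
      exact hQ hP
  have hR_apply : ∀ (a : adele k K) (Q : Place k K),
      (R a).1 Q = if Q ∈ S then 0 else NP π f g Q (a.1 Q) := by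
    intro a Q
    rw [hR, LinearMap.sub_apply]
    change (N a).1 Q - ((∑ P ∈ S, MP π f g P) a).1 Q = _
    rw [hsum_apply, hN, tN_adele_apply]
    split_ifs with hQ
    · rw [sub_self]
    · rw [sub_zero]
  have hRsq : R ^ 2 = 0 := by
    rw [pow_two]
    ext a Q
    rw [Module.End.mul_apply, hR_apply]
    split_ifs with hQ
    · rfl
    · rw [hR_apply, if_neg hQ]
      exact NP_sq_zero π hπ f g Q (hS Q hQ).1 (hS Q hQ).2 _
  have hdec : N = ∑ P ∈ S, MP π f g P + R := by
    rw [hR]
    abel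
  have h0 : trFP N = 0 := by
    rw [hN]
    exact tres_adele_eq_zero hK π hπ f g
  rw [hdec, trFP_add_of_mem_E0 hsumE hRE, trFP_eq_zero_of_pow_eq_zero hRsq, add_zero,
    trFP_sum_of_mem_E0 S _ hME] at h0
  rw [← h0]
  apply Finset.sum_congr rfl
  intro P _
  exact (trFP_MP hK π hπ f g P).symm

end Decomp

end Groth.Agent.Helper9.Tate
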