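import Mathlib
import Groth.Prelude.Def_W4bk4goldsch23FF
import Groth.Prelude.Def_LocRes
import Groth.Agent.Lib.Helper9.Tate.ResidueThm
import Groth.Agent.Lib.Helper9.Tate.LocalGen
import Groth.Agent.Lib.Helper9.FFExt.Weak

/-! # Weil differentials from residues — helper9 -/

universe u v w

namespace Groth.Agent.Helper9.Tate

open FunFld Module WithZero
open Groth.Agent.Lib.Helper4.FF Groth.Agent.Helper9.FFExt

section ResWeil

variable {k : Type u} {K : Type v} [Field k] [Field K] [Algebra k K]
  {F : Place k K → Type w} [∀ P, Field (F P)] [∀ P, Algebra k (F P)]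
  (φ : ∀ P, K →ₐ[k] LaurentSeries (F P))

/-- the local residue term -/
noncomputable def rterm (u v : K) (a : adele k K) (P : Place k K) : k :=
  LocRes.locRes (φ P) ((a : Place k K → K) P * u) v

variable {φ}

theorem finite_support_rterm (hK : IsFunctionField k K)
    (hφ : ∀ P, LocRes.IsExpansionAt P.1 (φ P)) (u v : K) (a : adele k K) :
    (Function.support (rterm φ u v a)).Finite := by
  have h1 : {P : Place k K | ¬ P.1 ((a : Place k K → K) P) ≤ 1}.Finite := mem_adele.mp a.2
  refine ((h1.union (finite_poles' hK u)).union (finite_poles' hK v)).subset ?_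
  intro P hP
  by_contra hn
  simp only [Set.mem_union, Set.mem_ofPred_eq, not_or, not_not] at hn
  apply hP
  unfold rterm
  apply locRes_eq_zero_of_le (hφ P) _ hn.2
  rw [map_mul]
  exact mul_le_one' hn.1.1 hn.1.2

theorem rterm_add (u v : K) (a b : adele k K) (P : Place k K) :
    rterm φ u v (a + b) P = rterm φ u v a P + rterm φ u v b P := by
  unfold rterm
  change LocRes.locRes (φ P) ((a.1 P + b.1 P) * u) v = _
  rw [add_mul, locRes_add_left]

theorem rterm_smul (u v : K) (c : k) (a : adele k K) (P : Place k K) :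
    rterm φ u v (c • a) P = c * rterm φ u v a P := by
  unfold rterm
  change LocRes.locRes (φ P) ((c • a.1 P) * u) v = _
  rw [smul_mul_assoc, locRes_smul_left]

/-- the residue functional `a ↦ ∑_P Res_P (a_P u dv)` -/
noncomputable def resW (hK : IsFunctionField k K) (hφ : ∀ P, LocRes.IsExpansionAt P.1 (φ P))
    (u v : K) : Module.Dual k (adele k K) where
  toFun a := ∑ᶠ P, rterm φ u v a P
  map_add' a b := by
    rw [← finsum_add_distrib (finite_support_rterm hK hφ u v a) (finite_support_rterm hK hφ u v b)]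
    apply finsum_congr
    intro P
    exact rterm_add u v a b P
  map_smul' c a := by
    rw [RingHom.id_apply, smul_eq_mul, mul_finsum]
    apply finsum_congr
    intro P
    exact rterm_smul u v c a P

theorem resW_apply (hK : IsFunctionField k K) (hφ : ∀ P, LocRes.IsExpansionAt P.1 (φ P))
    (u v : K) (a : adele k K) : resW hK hφ u v a = ∑ᶠ P, rterm φ u v a P := rfl

/-- on a repartition concentrated at one place the residue functional is the local residue -/
theorem resW_inP (hK : IsFunctionField k K) (hφ : ∀ P, LocRes.IsExpansionAt P.1 (φ P))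
    (u v : K) (P : Place k K) (y : K) :
    resW hK hφ u v (inP P y) = LocRes.locRes (φ P) (y * u) v := by
  rw [resW_apply, finsum_eq_single _ P]
  · unfold rterm
    rw [inP_apply_same]
  · intro Q hQ
    unfold rterm
    rw [inP_apply_ne hQ, zero_mul]
    unfold LocRes.locRes LocRes.resExp
    rw [map_zero, zero_mul, map_zero, map_zero]

variable [∀ P, FiniteDimensional k (F P)]

/-- the residue functional vanishes on principal repartitions -/
theorem resW_diag (hK : IsFunctionField k K) (hφ : ∀ P, LocRes.IsExpansionAt P.1 (φ P))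
    (u v x : K) (a : adele k K) (ha : (a : Place k K → K) = diag k K x) :
    resW hK hφ u v a = 0 := by
  rw [resW_apply]
  have h := (sum_locRes_eq_zero k K hK F φ hφ (x * u) v).2
  rw [← h]
  apply finsum_congr
  intro P
  unfold rterm
  rw [ha]
  rfl

omit [∀ P, FiniteDimensional k (F P)] in
theorem resW_AD (hK : IsFunctionField k K) (hg : IsGeometric k K)
    (hφ : ∀ P, LocRes.IsExpansionAt P.1 (φ P))
    {u v : K} (hu : u ≠ 0) (hv : KaehlerDifferential.D k K v ≠ 0) (E : Divisor k K)
    (hE : ∀ P, E P ≤ LocRes.ordDiff (φ P) u v) (a : adele k K)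
    (ha : (a : Place k K → K) ∈ AD E) : resW hK hφ u v a = 0 := by
  rw [resW_apply]
  apply finsum_eq_zero_of_forall_eq_zero
  intro P
  unfold rterm
  apply locRes_eq_zero_of_vDiff_le
  rw [vDiff_mul_left (hφ P),
    vDiff_eq_exp_ordDiff (vDiff_ne_zero_gen (isFFw_of_isFunctionField hK) hg (hφ P) hu hv)]
  calc P.1 ((a : Place k K → K) P) * exp (-LocRes.ordDiff (φ P) u v)
      ≤ exp (E P) * exp (-LocRes.ordDiff (φ P) u v) := mul_le_mul' (ha P) le_rfl
    _ = exp (E P - LocRes.ordDiff (φ P) u v) := by rw [← exp_add, sub_eq_add_neg]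
    _ ≤ 1 := by
      rw [← exp_zero, exp_le_exp]
      have := hE P
      omega

/-- **the Weil differentials `≥ E` among residue functionals** -/
theorem resW_mem_WD_iff (hK : IsFunctionField k K) (hg : IsGeometric k K)
    (hφ : ∀ P, LocRes.IsExpansionAt P.1 (φ P))
    {u v : K} (hu : u ≠ 0) (hv : KaehlerDifferential.D k K v ≠ 0) (E : Divisor k K) :
    resW hK hφ u v ∈ WD E ↔ ∀ P, E P ≤ LocRes.ordDiff (φ P) u v := by
  constructor
  · intro h P
    by_contra hlt
    rw [not_le] at hlt
    obtain ⟨y, hy1, hy2⟩ := exists_locRes_ne_zero (isFFw_of_isFunctionField hK) hg (hφ P) hu hv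
      (E P) hlt
    apply hy2
    rw [← resW_inP hK hφ u v P y]
    rw [mem_WD] at h
    apply h
    apply Submodule.mem_sup_left
    intro Q
    by_cases hQ : Q = P
    · subst hQ
      rw [inP_apply_same]
      exact hy1
    · rw [inP_apply_ne hQ, map_zero]
      exact zero_le
  · intro h
    rw [mem_WD]
    intro a ha
    obtain ⟨b, hb, d, ⟨x, hx⟩, hsum⟩ := Submodule.mem_sup.mp ha
    have e1 : a = (⟨b, AD_le_adele E hb⟩ : adele k K) +
        ⟨d, range_diag_le_adele hK ⟨x, hx⟩⟩ := by
      apply Subtype.ext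
      exact hsum.symm
    rw [e1, map_add, resW_AD hK hg hφ hu hv E h _ hb, resW_diag hK hφ u v x _ hx.symm, add_zero]

theorem resW_ne_zero (hK : IsFunctionField k K) (hg : IsGeometric k K)
    (hφ : ∀ P, LocRes.IsExpansionAt P.1 (φ P))
    {u v : K} (hu : u ≠ 0) (hv : KaehlerDifferential.D k K v ≠ 0) : resW hK hφ u v ≠ 0 := by
  classical
  intro h0
  obtain ⟨P⟩ := nonempty_place hK
  have h1 : resW hK hφ u v ∈ WD (Finsupp.single P (LocRes.ordDiff (φ P) u v + 1)) := by
    rw [h0]
    exact Submodule.zero_mem _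
  have := (resW_mem_WD_iff hK hg hφ hu hv _).mp h1 P
  rw [Finsupp.single_eq_same] at this
  omega

omit [∀ P, FiniteDimensional k (F P)] in
theorem ordDiff_nonneg_of_le (hK : IsFunctionField k K) (hg : IsGeometric k K)
    (hφ : ∀ P, LocRes.IsExpansionAt P.1 (φ P))
    {u v : K} (hu : u ≠ 0) (hv : KaehlerDifferential.D k K v ≠ 0) (P : Place k K)
    (h1 : P.1 u ≤ 1) (h2 : P.1 v ≤ 1) : 0 ≤ LocRes.ordDiff (φ P) u v := by
  have h3 := vDiff_le_one_of_le (hφ P) h1 h2
  rw [vDiff_eq_exp_ordDiff (vDiff_ne_zero_gen (isFFw_of_isFunctionField hK) hg (hφ P) hu hv),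
    ← exp_zero, exp_le_exp] at h3
  omega

theorem resW_isWeil (hK : IsFunctionField k K) (hg : IsGeometric k K)
    (hφ : ∀ P, LocRes.IsExpansionAt P.1 (φ P))
    {u v : K} (hu : u ≠ 0) (hv : KaehlerDifferential.D k K v ≠ 0) : IsWeil (resW hK hφ u v) := by
  classical
  obtain ⟨S, hS⟩ : ∃ S : Finset (Place k K), ∀ Q, Q ∉ S → Q.1 u ≤ 1 ∧ Q.1 v ≤ 1 := by
    refine ⟨((finite_poles' hK u).union (finite_poles' hK v)).toFinset, fun Q hQ => ?_⟩
    rw [Set.Finite.mem_toFinset, Set.mem_union, not_or] at hQ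
    exact ⟨not_not.mp hQ.1, not_not.mp hQ.2⟩
  let D : Divisor k K := Finsupp.onFinset S
    (fun P => if P ∈ S then min (LocRes.ordDiff (φ P) u v) 0 else 0) (by
      intro P hP
      by_contra h
      exact hP (if_neg h))
  refine ⟨D, (resW_mem_WD_iff hK hg hφ hu hv D).mpr (fun P => ?_)⟩
  change (if P ∈ S then min (LocRes.ordDiff (φ P) u v) 0 else 0) ≤ _
  split_ifs with h
  · exact min_le_left _ _
  · exact ordDiff_nonneg_of_le hK hg hφ hu hv P (hS P h).1 (hS P h).2

/-- **the divisor of the residue functional of `u dv` is the divisor of `u dv`** -/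
theorem exists_divisor_resW (hK : IsFunctionField k K) (hg : IsGeometric k K)
    (hφ : ∀ P, LocRes.IsExpansionAt P.1 (φ P))
    {u v : K} (hu : u ≠ 0) (hv : KaehlerDifferential.D k K v ≠ 0) :
    ∃ C : Divisor k K, (∀ P, C P = LocRes.ordDiff (φ P) u v) ∧ IsDivOf (resW hK hφ u v) C := by
  classical
  obtain ⟨C, hC⟩ := exists_isDivOf hK (resW_isWeil hK hg hφ hu hv) (resW_ne_zero hK hg hφ hu hv)
  have h1 : ∀ P, C P ≤ LocRes.ordDiff (φ P) u v :=
    (resW_mem_WD_iff hK hg hφ hu hv C).mp ((hC C).mpr le_rfl)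
  refine ⟨C, fun P => le_antisymm (h1 P) ?_, hC⟩
  by_contra hlt
  rw [not_le] at hlt
  have h2 : resW hK hφ u v ∈ WD (C + Finsupp.single P 1) := by
    rw [resW_mem_WD_iff hK hg hφ hu hv]
    intro Q
    rw [Finsupp.add_apply]
    by_cases hQ : Q = P
    · subst hQ
      rw [Finsupp.single_eq_same]
      omega
    · rw [Finsupp.single_eq_of_ne hQ, add_zero]
      exact h1 Q
  have h3 := (hC _).mp h2 P
  rw [Finsupp.add_apply, Finsupp.single_eq_same] at h3
  omega

theorem finite_support_ordDiff_gen (hK : IsFunctionField k K) (hg : IsGeometric k K)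
    (hφ : ∀ P, LocRes.IsExpansionAt P.1 (φ P))
    {u v : K} (hu : u ≠ 0) (hv : KaehlerDifferential.D k K v ≠ 0) :
    (Function.support fun P => LocRes.ordDiff (φ P) u v).Finite := by
  obtain ⟨C, hC, -⟩ := exists_divisor_resW hK hg hφ hu hv
  refine C.support.finite_toSet.subset ?_
  intro P hP
  rw [Function.mem_support, ← hC P] at hP
  exact Finsupp.mem_support_iff.mpr hP

theorem isDivOf_resW (hK : IsFunctionField k K) (hg : IsGeometric k K)
    (hφ : ∀ P, LocRes.IsExpansionAt P.1 (φ P))
    {u v : K} (hu : u ≠ 0) (hv : KaehlerDifferential.D k K v ≠ 0) (C : Divisor k K)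
    (hC : ∀ P, C P = LocRes.ordDiff (φ P) u v) : IsDivOf (resW hK hφ u v) C := by
  obtain ⟨C', hC', h⟩ := exists_divisor_resW hK hg hφ hu hv
  have : C = C' := by
    ext P
    rw [hC, hC']
  rw [this]
  exact h

end ResWeil

end Groth.Agent.Helper9.Tate
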