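import Mathlib
import Groth.Prelude.Def_W4bk4goldsch23FF
import Groth.Prelude.Def_LocRes
import Groth.Agent.Lib.Helper9.Tate.ResWeil

/-! # Weil differentials from residues, II: the comparison with `L`-spaces — helper9 -/

universe u v w

namespace Groth.Agent.Helper9.Tate

open FunFld Module WithZero
open Groth.Agent.Lib.Helper4.FF Groth.Agent.Helper9.FFExt

section ResWeil2

variable {k : Type u} {K : Type v} [Field k] [Field K] [Algebra k K]
  {F : Place k K → Type w} [∀ P, Field (F P)] [∀ P, Algebra k (F P)]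
  {φ : ∀ P, K →ₐ[k] LaurentSeries (F P)}

theorem vDiff_eq_mul_exp (hK : IsFunctionField k K) (hg : IsGeometric k K)
    (hφ : ∀ P, LocRes.IsExpansionAt P.1 (φ P)) {v : K} (hv : KaehlerDifferential.D k K v ≠ 0)
    (y : K) (P : Place k K) :
    LocRes.vDiff (φ P) y v = P.1 y * exp (-LocRes.ordDiff (φ P) 1 v) := by
  have h1 := vDiff_mul_left (hφ P) y 1 v
  rw [mul_one] at h1
  rw [h1, vDiff_eq_exp_ordDiff (vDiff_ne_zero_gen (isFFw_of_isFunctionField hK) hg (hφ P)
    one_ne_zero hv)]

theorem mul_exp_le_iff (a : WithZero (Multiplicative ℤ)) (c d : ℤ) :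
    a * exp (-c) ≤ exp (-d) ↔ a ≤ exp (c - d) := by
  have h0 : (0 : WithZero (Multiplicative ℤ)) < exp (-c) := exp_pos
  have e : exp (-d) = exp (c - d) * exp (-c) := by
    rw [← exp_add]
    congr 1
    ring
  rw [e, mul_le_mul_iff_left₀ h0]

/-- the differentials `y dv ≥ D` form the space `L((dv) - D)` -/
theorem setOf_vDiff_le_eq (hK : IsFunctionField k K) (hg : IsGeometric k K)
    (hφ : ∀ P, LocRes.IsExpansionAt P.1 (φ P)) {v : K} (hv : KaehlerDifferential.D k K v ≠ 0)
    (C : Divisor k K) (hC : ∀ P, C P = LocRes.ordDiff (φ P) 1 v) (D : Divisor k K) :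
    {y : K | ∀ P, LocRes.vDiff (φ P) y v ≤ exp (-(D P))} = (L (C - D) : Set K) := by
  ext y
  rw [Set.mem_ofPred_eq, SetLike.mem_coe, mem_L]
  apply forall_congr'
  intro P
  rw [vDiff_eq_mul_exp hK hg hφ hv, mul_exp_le_iff, Finsupp.sub_apply, hC]

variable [∀ P, FiniteDimensional k (F P)]

theorem finrank_span_vDiff_le (hK : IsFunctionField k K) (hg : IsGeometric k K)
    (hφ : ∀ P, LocRes.IsExpansionAt P.1 (φ P)) {v : K} (hv : KaehlerDifferential.D k K v ≠ 0)
    (D : Divisor k K) :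
    Module.finrank k (Submodule.span k {y : K | ∀ P, LocRes.vDiff (φ P) y v ≤ exp (-(D P))}) =
      Module.finrank k (WD D) := by
  obtain ⟨C, hC, hdiv⟩ := exists_divisor_resW hK hg hφ one_ne_zero hv
  rw [setOf_vDiff_le_eq hK hg hφ hv C hC D, Submodule.span_eq]
  have h := smul_mem_adele hK
  have h1 := finrank_map_mulWₗ h (resW_ne_zero hK hg hφ one_ne_zero hv) (C - D)
  rw [map_mulWₗ_eq hK h hdiv D] at h1
  rw [h1]
  rfl

theorem isCanonical_divisor (hK : IsFunctionField k K) (hg : IsGeometric k K)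
    (hφ : ∀ P, LocRes.IsExpansionAt P.1 (φ P)) {v : K} (hv : KaehlerDifferential.D k K v ≠ 0)
    (C : Divisor k K) (hC : ∀ P, C P = LocRes.ordDiff (φ P) 1 v) : IsCanonical k K C :=
  ⟨resW hK hφ 1 v, resW_ne_zero hK hg hφ one_ne_zero hv, isDivOf_resW hK hg hφ one_ne_zero hv C hC⟩

omit [∀ P, FiniteDimensional k (F P)] in
theorem mulW_resW (hK : IsFunctionField k K) (hφ : ∀ P, LocRes.IsExpansionAt P.1 (φ P))
    (x v : K) : mulW x (smul_mem_adele hK x) (resW hK hφ 1 v) = resW hK hφ x v := by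
  ext a
  rw [mulW_apply, resW_apply, resW_apply]
  apply finsum_congr
  intro P
  unfold rterm
  change LocRes.locRes (φ P) (x * a.1 P * 1) v = _
  rw [mul_one, mul_comm]

/-- the residue functional determines the differential -/
theorem resW_injective (hK : IsFunctionField k K) (hg : IsGeometric k K)
    (hφ : ∀ P, LocRes.IsExpansionAt P.1 (φ P)) {v : K} (hv : KaehlerDifferential.D k K v ≠ 0)
    {u u' : K} (h : resW hK hφ u v = resW hK hφ u' v) : u = u' := by
  by_contra hne
  have hd : u - u' ≠ 0 := sub_ne_zero.mpr hne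
  obtain ⟨P⟩ := nonempty_place hK
  obtain ⟨y, -, hy⟩ := exists_locRes_ne_zero (isFFw_of_isFunctionField hK) hg (hφ P) hd hv
    (LocRes.ordDiff (φ P) (u - u') v + 1) (by omega)
  apply hy
  have h1 := LinearMap.congr_fun h (inP P y)
  rw [resW_inP, resW_inP] at h1
  have h2 : y * u = y * (u - u') + y * u' := by ring
  rw [h2, locRes_add_left] at h1
  exact add_eq_right.mp h1

end ResWeil2

end Groth.Agent.Helper9.Tate
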