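import Mathlib
import Groth.Prelude.Def_W4bk4goldsch23FF
import Groth.Prelude.Def_LocRes
import Groth.Agent.Lib.Helper9.Tate.LocalGen
import Groth.Agent.Lib.Helper4.FF.Zeros

/-! # The coefficient field of an expansion at a place is finite over the constants — helper9 -/

namespace Groth.Agent.Helper9.Tate

open FunFld Module WithZero
open Groth.Agent.Lib.Helper4.FF Groth.Agent.Helper9.FFExt

section CoeffFinite

variable {k K F : Type*} [Field k] [Field K] [Algebra k K] [Field F] [Algebra k F]

/-- the constant coefficient map on the valuation ring -/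
noncomputable def coeffLin (P : Place k K) (φ : K →ₐ[k] LaurentSeries F) : P.O →ₗ[k] F where
  toFun z := (φ (z : K)).coeff 0
  map_add' z w := by
    change (φ ((z : K) + (w : K))).coeff 0 = _
    rw [map_add, HahnSeries.coeff_add]
  map_smul' c z := by
    change (φ (algebraMap k K c * (z : K))).coeff 0 = c • (φ (z : K)).coeff 0
    rw [map_mul, LocRes.map_algebraMap, HahnSeries.C_mul_eq_smul, HahnSeries.coeff_smul,
      algebraMap_smul]

theorem finiteDimensional_coeff (hK : IsFunctionField k K) (P : Place k K)
    (φ : K →ₐ[k] LaurentSeries F) (hφ : LocRes.IsExpansionAt P.1 φ) : FiniteDimensional k F := by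
  have hpos := Place.deg_pos hK P
  have hfin : Module.Finite k (IsLocalRing.ResidueField P.O) := Module.finite_of_finrank_pos hpos
  have hker : LinearMap.ker (Place.resₗ P) ≤ LinearMap.ker (coeffLin P φ) := by
    intro z hz
    rw [LinearMap.mem_ker, Place.resₗ_eq_zero_iff] at hz
    rw [LinearMap.mem_ker]
    change (φ (z : K)).coeff 0 = 0
    have h3 : φ (z : K) ∈ Afil k 1 := by
      rw [mem_Afil_iff_val, hφ.1]
      exact lt_one_iff_le_exp_neg_one.mp hz
    exact h3 0 (by norm_num)
  let e := (Place.resₗ P).quotKerEquivOfSurjective (Place.resₗ_surjective P)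
  have hfin2 : Module.Finite k (P.O ⧸ LinearMap.ker (Place.resₗ P)) :=
    Module.Finite.equiv e.symm
  let g := (LinearMap.ker (Place.resₗ P)).liftQ (coeffLin P φ) hker
  apply Module.Finite.of_surjective g
  intro a
  obtain ⟨f, hf1, hf2⟩ := hφ.2.1 a
  refine ⟨Submodule.Quotient.mk ⟨f, (Place.mem_O_iff P).mpr hf1⟩, ?_⟩
  rw [Submodule.liftQ_apply]
  exact hf2

end CoeffFinite

end Groth.Agent.Helper9.Tate
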