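import Mathlib
import Groth.Agent.Lib.Helper9.Tate.Res
import Groth.Agent.Lib.Helper9.Tate.Place

/-! # Tate's trace of block operators on a finite product — helper9 -/

namespace Groth.Agent.Helper9.Tate

open Module

section Block

variable {k : Type*} [Field k] {ι : Type*} [Fintype ι] [DecidableEq ι] {V : ι → Type*}
  [∀ i, AddCommGroup (V i)] [∀ i, Module k (V i)]

/-- closure of `E₀(A)` under composition with operators preserving `A` -/
theorem comp_mem_E0_left {W : Type*} [AddCommGroup W] [Module k W] {A : Submodule k W}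
    {θ α : W →ₗ[k] W} (hθ : θ ∈ E0 A) (hα : A.map α ≤ A) : α ∘ₗ θ ∈ E0 A := by
  constructor
  · rw [LinearMap.range_comp]
    exact (hθ.1.map α).trans (Almost.of_le hα)
  · rw [Submodule.map_comp]
    have := hθ.2.map α
    rwa [Submodule.map_bot] at this

theorem comp_mem_E0_right {W : Type*} [AddCommGroup W] [Module k W] {A : Submodule k W}
    {θ α : W →ₗ[k] W} (hθ : θ ∈ E0 A) (hα : A.map α ≤ A) : θ ∘ₗ α ∈ E0 A := by
  constructor
  · exact hθ.1.mono_left (LinearMap.range_comp_le_range _ _)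
  · rw [Submodule.map_comp]
    exact hθ.2.mono_left (Submodule.map_mono hα)

/-- the coordinate idempotent -/
noncomputable def eI (k : Type*) [Field k] {ι : Type*} [DecidableEq ι] (V : ι → Type*)
    [∀ i, AddCommGroup (V i)] [∀ i, Module k (V i)] (i : ι) :
    (∀ i, V i) →ₗ[k] (∀ i, V i) := (LinearMap.single k V i) ∘ₗ (LinearMap.proj i)

theorem eI_apply (i : ι) (w : ∀ i, V i) : eI k V i w = Pi.single i (w i) := rfl

theorem sum_eI_apply (w : ∀ i, V i) : ∑ i, eI k V i w = w := by
  funext j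
  rw [Finset.sum_apply, Finset.sum_eq_single j]
  · rw [eI_apply, Pi.single_eq_same]
  · intro b _ hb
    rw [eI_apply, Pi.single_eq_of_ne hb.symm]
  · intro h
    exact absurd (Finset.mem_univ j) h

theorem eI_comp_eI_of_ne {i j : ι} (h : i ≠ j) : eI k V i ∘ₗ eI k V j = 0 := by
  ext w l
  simp only [LinearMap.coe_comp, Function.comp_apply, eI_apply, LinearMap.zero_apply,
    Pi.zero_apply]
  rw [Pi.single_eq_of_ne h, Pi.single_zero]
  rfl

theorem map_eI_le (A : ∀ i, Submodule k (V i)) (i : ι) :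
    (Submodule.pi Set.univ A).map (eI k V i) ≤ Submodule.pi Set.univ A := by
  rintro _ ⟨w, hw, rfl⟩ j _
  rw [eI_apply]
  by_cases h : j = i
  · subst h
    rw [Pi.single_eq_same]
    exact hw j (Set.mem_univ j)
  · rw [Pi.single_eq_of_ne h]
    exact Submodule.zero_mem _

/-- **the trace of a block operator is the sum of the traces of the diagonal blocks** -/
theorem trFP_pi (A : ∀ i, Submodule k (V i)) (θ : (∀ i, V i) →ₗ[k] (∀ i, V i))
    (hθ : θ ∈ E0 (Submodule.pi Set.univ A)) :
    trFP θ = ∑ i, trFP ((LinearMap.proj i) ∘ₗ θ ∘ₗ (LinearMap.single k V i)) := by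
  have hdecomp : θ = ∑ i, ∑ j, eI k V i ∘ₗ θ ∘ₗ eI k V j := by
    refine LinearMap.ext fun w => ?_
    rw [LinearMap.sum_apply]
    have h1 : ∀ i, (∑ j, eI k V i ∘ₗ θ ∘ₗ eI k V j) w = eI k V i (θ w) := by
      intro i
      rw [LinearMap.sum_apply]
      simp only [LinearMap.comp_apply]
      rw [← map_sum, ← map_sum, sum_eI_apply]
    rw [Finset.sum_congr rfl (fun i _ => h1 i), sum_eI_apply]
  have hmem : ∀ i j, eI k V i ∘ₗ θ ∘ₗ eI k V j ∈ E0 (Submodule.pi Set.univ A) := fun i j =>
    comp_mem_E0_left (comp_mem_E0_right hθ (map_eI_le A j)) (map_eI_le A i)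
  conv_lhs => rw [hdecomp]
  rw [trFP_sum_of_mem_E0 _ _ (fun i _ => (E0 _).sum_mem fun j _ => hmem i j)]
  refine Finset.sum_congr rfl fun i _ => ?_
  rw [trFP_sum_of_mem_E0 _ _ (fun j _ => hmem i j), Finset.sum_eq_single i]
  · -- the diagonal term
    have h1 : eI k V i ∘ₗ θ ∘ₗ eI k V i =
        (LinearMap.single k V i) ∘ₗ ((LinearMap.proj i) ∘ₗ θ ∘ₗ eI k V i) := rfl
    have h2 : (LinearMap.proj i) ∘ₗ θ ∘ₗ (LinearMap.single k V i) =
        ((LinearMap.proj i) ∘ₗ θ ∘ₗ eI k V i) ∘ₗ (LinearMap.single k V i) := by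
      ext v
      simp only [LinearMap.coe_comp, Function.comp_apply, eI_apply, LinearMap.coe_proj,
        Function.eval, LinearMap.coe_single, Pi.single_eq_same]
    rw [h2, h1]
    symm
    apply trFP_comp_comm
    rw [← h1]
    exact isFinPot_of_mem_E0 (hmem i i)
  · intro j _ hj
    have h1 : eI k V i ∘ₗ θ ∘ₗ eI k V j = eI k V i ∘ₗ (θ ∘ₗ eI k V j) := rfl
    rw [h1, trFP_comp_comm]
    · have : (θ ∘ₗ eI k V j) ∘ₗ eI k V i = 0 := by
        rw [LinearMap.comp_assoc, eI_comp_eI_of_ne hj, LinearMap.comp_zero]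
      rw [this, trFP_zero]
    · have : (θ ∘ₗ eI k V j) ∘ₗ eI k V i = 0 := by
        rw [LinearMap.comp_assoc, eI_comp_eI_of_ne hj, LinearMap.comp_zero]
      rw [this]
      exact isFinPot_of_mem_E0 (E0 (⊥ : Submodule k (∀ i, V i))).zero_mem
  · intro h
    exact absurd (Finset.mem_univ i) h


/-- the coordinatewise operator -/
noncomputable def piMap (h : ∀ i, V i →ₗ[k] V i) : (∀ i, V i) →ₗ[k] (∀ i, V i) :=
  LinearMap.pi (fun i => h i ∘ₗ LinearMap.proj i)

omit [Fintype ι] [DecidableEq ι] in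
theorem piMap_apply (h : ∀ i, V i →ₗ[k] V i) (w : ∀ i, V i) (i : ι) : piMap h w i = h i (w i) := rfl

omit [Fintype ι] [DecidableEq ι] in
theorem isProj_piMap {A : ∀ i, Submodule k (V i)} {π : ∀ i, V i →ₗ[k] V i}
    (hπ : ∀ i, LinearMap.IsProj (A i) (π i)) :
    LinearMap.IsProj (Submodule.pi Set.univ A) (piMap π) := by
  constructor
  · intro w i _
    rw [piMap_apply]
    exact (hπ i).map_mem _
  · intro w hw
    funext i
    rw [piMap_apply]
    exact (hπ i).map_id _ (hw i (Set.mem_univ i))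

omit [DecidableEq ι] in
theorem almost_pi_of_forall {A B : ∀ i, Submodule k (V i)} (h : ∀ i, Almost (B i) (A i)) :
    Almost (Submodule.pi Set.univ B) (Submodule.pi Set.univ A) := by
  classical
  choose W hWfin hW using h
  refine ⟨⨆ i, (W i).map (LinearMap.single k V i), ?_, ?_⟩
  · have : ∀ i, FiniteDimensional k ((W i).map (LinearMap.single k V i)) := fun i => by
      have := hWfin i
      infer_instance
    infer_instance
  · intro w hw
    have hdec : ∀ i, ∃ a ∈ A i, ∃ u ∈ W i, a + u = w i := fun i =>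
      Submodule.mem_sup.mp (hW i (hw i (Set.mem_univ i)))
    choose a ha u hu hau using hdec
    have hw' : w = a + ∑ i, LinearMap.single k V i (u i) := by
      funext j
      rw [Pi.add_apply, Finset.sum_apply, Finset.sum_eq_single j]
      · rw [LinearMap.coe_single, Pi.single_eq_same, hau]
      · intro b _ hb
        rw [LinearMap.coe_single, Pi.single_eq_of_ne hb.symm]
      · intro h
        exact absurd (Finset.mem_univ j) h
    rw [hw']
    refine Submodule.add_mem_sup (fun i _ => ha i) (Submodule.sum_mem _ fun i _ => ?_)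
    exact Submodule.mem_iSup_of_mem i ⟨u i, hu i, rfl⟩

omit [DecidableEq ι] in
theorem almost_piMap {A : ∀ i, Submodule k (V i)} {f : ∀ i, V i →ₗ[k] V i}
    (h : ∀ i, Almost ((A i).map (f i)) (A i)) :
    Almost ((Submodule.pi Set.univ A).map (piMap f)) (Submodule.pi Set.univ A) := by
  refine (almost_pi_of_forall h).mono_left ?_
  rintro _ ⟨w, hw, rfl⟩ i _
  rw [piMap_apply]
  exact ⟨w i, hw i (Set.mem_univ i), rfl⟩

/-- **Tate's residue on a finite product is the sum of the residues** -/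
theorem tres_piMap {A : ∀ i, Submodule k (V i)} {π : ∀ i, V i →ₗ[k] V i}
    (hπ : ∀ i, LinearMap.IsProj (A i) (π i)) {f g : ∀ i, V i →ₗ[k] V i}
    (hf : ∀ i, Almost ((A i).map (f i)) (A i)) (hg : ∀ i, Almost ((A i).map (g i)) (A i)) :
    tres (piMap π) (piMap f) (piMap g) = ∑ i, tres (π i) (f i) (g i) := by
  unfold tres
  have hmem := tN_mem_E0 (isProj_piMap hπ) (almost_piMap hf) (almost_piMap hg)
  rw [trFP_pi A _ hmem]
  refine Finset.sum_congr rfl fun i _ => ?_
  congr 1
  ext v
  simp only [LinearMap.coe_comp, Function.comp_apply, LinearMap.coe_proj, Function.eval, tN_apply,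
    piMap_apply, LinearMap.coe_single, Pi.single_eq_same, Pi.sub_apply]

end Block

end Groth.Agent.Helper9.Tate
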