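import Mathlib
import Groth.Prelude.Def_W4bk4goldsch23Ext
import Groth.Prelude.Def_LocRes
import Groth.Agent.Lib.Helper9.Tate.Block
import Groth.Agent.Lib.Helper9.Tate.ResidueThm
import Groth.Agent.Lib.Helper9.FFExt.IntCl3
import Groth.Agent.Lib.Helper4.FF.Approx

/-! # Semilocal residues and the trace formula for local residues — helper9 -/

universe u v w

namespace Groth.Agent.Helper9.Tate

open FunFld Module WithZero
open Groth.Agent.Lib.Helper4.FF Groth.Agent.Helper9.FFExt

section Gen

variable {k : Type*} [Field k] {V V' : Type*} [AddCommGroup V] [Module k V]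
  [AddCommGroup V'] [Module k V']

/-- almost containment is preserved by linear maps between different spaces -/
theorem Almost.map' {A B : Submodule k V} (h : Almost A B) (θ : V →ₗ[k] V') :
    Almost (A.map θ) (B.map θ) := by
  obtain ⟨W, hf, hW⟩ := h
  refine ⟨W.map θ, inferInstance, ?_⟩
  rw [← Submodule.map_sup]
  exact Submodule.map_mono hW

end Gen

section Semi

variable {k : Type u} {K' : Type v} [Field k] [Field K'] [Algebra k K']

/-- the diagonal embedding into a finite product indexed by places -/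
noncomputable def diagQ (Qs : Finset (Place k K')) : K' →ₗ[k] (Qs → K') :=
  LinearMap.pi (fun _ => LinearMap.id)

theorem diagQ_apply (Qs : Finset (Place k K')) (z : K') (Q : Qs) : diagQ Qs z Q = z := rfl

/-- the semilocal ring of a finite set of places, as a `k`-subspace -/
noncomputable def semiO (Qs : Finset (Place k K')) : Submodule k K' :=
  (Submodule.pi Set.univ (fun Q : Qs => OPl Q.1)).comap (diagQ Qs)

theorem mem_semiO {Qs : Finset (Place k K')} {z : K'} :
    z ∈ semiO Qs ↔ ∀ Q ∈ Qs, Q.1 z ≤ 1 := by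
  unfold semiO
  rw [Submodule.mem_comap, Submodule.mem_pi]
  constructor
  · intro h Q hQ
    exact h ⟨Q, hQ⟩ (Set.mem_univ _)
  · intro h Q _
    exact h Q.1 Q.2

theorem OV_eq_OPl {F : Type*} [Field F] [Algebra k F] {Q : Place k K'}
    {ψ : K' →ₐ[k] LaurentSeries F} (hψ : LocRes.IsExpansionAt Q.1 ψ) : OV ψ = OPl Q := by
  ext x
  rw [mem_OV hψ, mem_OPl]

/-- **the residue of a semilocal ring is the sum of the local residues** -/
theorem tres_semilocal (Qs : Finset (Place k K')) (hne : Qs.Nonempty)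
    (F' : Place k K' → Type w) [∀ Q, Field (F' Q)] [∀ Q, Algebra k (F' Q)]
    [∀ Q, FiniteDimensional k (F' Q)]
    (ψ : ∀ Q, K' →ₐ[k] LaurentSeries (F' Q)) (hψ : ∀ Q ∈ Qs, LocRes.IsExpansionAt Q.1 (ψ Q))
    {π' : K' →ₗ[k] K'} (hπ' : LinearMap.IsProj (semiO Qs) π') (f g : K') :
    Almost ((semiO Qs).map (mulK k f)) (semiO Qs) ∧
    tres π' (mulK k f) (mulK k g) = ∑ Q ∈ Qs, LocRes.locRes (ψ Q) f g := by
  classical
  have hex : ∀ Q : Qs, ∃ π : K' →ₗ[k] K', LinearMap.IsProj (OPl Q.1) π := fun Q => exists_isProj _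
  choose π hπ using hex
  have halm : ∀ (z : K') (Q : Qs), Almost ((OPl Q.1).map (mulK k z)) (OPl Q.1) := by
    intro z Q
    rw [← OV_eq_OPl (hψ Q.1 Q.2)]
    exact almost_mulK z
  have hsup : LinearMap.range (diagQ Qs) ⊔ Submodule.pi Set.univ (fun Q : Qs => OPl Q.1) = ⊤ := by
    rw [eq_top_iff]
    intro w _
    obtain ⟨z, hz⟩ := exists_approx_le Qs (fun Q => if h : Q ∈ Qs then w ⟨Q, h⟩ else 0) 0
    have : w = diagQ Qs z + (w - diagQ Qs z) := by abel
    rw [this]
    refine Submodule.add_mem_sup ⟨z, rfl⟩ ?_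
    intro Q _
    have h1 := hz Q.1 Q.2
    rw [dif_pos Q.2, neg_zero, exp_zero] at h1
    change (Q.1).1 (w Q - z) ≤ 1
    rw [← Valuation.map_neg, neg_sub]
    exact h1
  have halmS : ∀ z : K', Almost ((semiO Qs).map (mulK k z)) (semiO Qs) := by
    intro z
    have h1 := almost_piMap (f := fun _ : Qs => mulK k z) (halm z)
    refine (Almost.comap (diagQ Qs) h1).mono_left ?_
    rintro _ ⟨a, ha, rfl⟩
    rw [Submodule.mem_comap]
    exact ⟨diagQ Qs a, ha, rfl⟩
  refine ⟨halmS f, ?_⟩
  obtain ⟨Q₀, hQ₀⟩ := hne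
  have h := tres_transfer (diagQ Qs) (fun a b hab => congrFun hab ⟨Q₀, hQ₀⟩)
    (A := semiO Qs) (A' := Submodule.pi Set.univ (fun Q : Qs => OPl Q.1)) rfl hsup hπ'
    (isProj_piMap hπ) (f := mulK k f) (g := mulK k g) (f' := piMap (fun _ => mulK k f))
    (g' := piMap (fun _ => mulK k g)) (by ext x Q; rfl) (by ext x Q; rfl) (mulK_comm f g)
    (by
      ext w Q
      simp only [LinearMap.coe_comp, Function.comp_apply, piMap_apply, LinearMap.mulLeft_apply]
      rw [mul_left_comm])
    (halmS f) (halmS g) (almost_piMap (halm f)) (almost_piMap (halm g))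
  rw [h, tres_piMap hπ (halm f) (halm g), ← Finset.sum_coe_sort Qs]
  refine Finset.sum_congr rfl fun Q _ => ?_
  have hπQ : LinearMap.IsProj (OV (ψ Q.1)) (π Q) := by
    rw [OV_eq_OPl (hψ Q.1 Q.2)]
    exact hπ Q
  exact tres_eq_locRes (hψ Q.1 Q.2) hπQ f g

end Semi


section Sum

variable {k : Type*} [Field k] {K : Type*} [Field K] [Algebra k K]

theorem mulK_add (a b : K) : mulK k (a + b) = mulK k a + mulK k b := by
  ext x
  simp [add_mul]

theorem mulK_zero : mulK k (0 : K) = 0 := by
  ext x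
  simp

theorem tres_sum_left {A : Submodule k K} {π : K →ₗ[k] K} (hπ : LinearMap.IsProj A π)
    (halm : ∀ z : K, Almost (A.map (mulK k z)) A) {ι : Type*} (s : Finset ι) (a : ι → K) (g : K) :
    tres π (mulK k (∑ i ∈ s, a i)) (mulK k g) = ∑ i ∈ s, tres π (mulK k (a i)) (mulK k g) := by
  classical
  induction s using Finset.induction_on with
  | empty =>
    rw [Finset.sum_empty, Finset.sum_empty, mulK_zero, tres_zero_left]
  | insert i s hi ih =>
    rw [Finset.sum_insert hi, Finset.sum_insert hi, mulK_add,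
      tres_add_left hπ (halm _) (halm _) (halm _), ih]

end Sum

section Trace

variable {k : Type u} {K : Type v} {K' : Type v} [Field k] [Field K] [Field K'] [Algebra k K]
  [Algebra K K'] [Algebra k K'] [IsScalarTower k K K'] [FiniteDimensional K K']

/-- **Tate's trace formula**: the residue of the semilocal ring over `P` is the residue at `P`
of the trace -/
theorem tres_trace (hK : IsFFw k K) (P : Place k K) (Qs : Finset (Place k K'))
    (hQs : ∀ Q, Q ∈ Qs ↔ IsOver Q P)
    {π : K →ₗ[k] K} (hπ : LinearMap.IsProj (OPl P) π)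
    {π' : K' →ₗ[k] K'} (hπ' : LinearMap.IsProj (semiO Qs) π')
    (halm : ∀ z : K, Almost ((OPl P).map (mulK k z)) (OPl P))
    (halm' : ∀ z : K', Almost ((semiO Qs).map (mulK k z)) (semiO Qs))
    (y : K') (x : K) :
    tres π' (mulK k y) (mulK k (algebraMap K K' x)) =
      tres π (mulK k (Algebra.trace K K' y)) (mulK k x) := by
  classical
  obtain ⟨b, hb1, hb2⟩ := exists_integral_basis (K' := K') hK P
  obtain ⟨e, he⟩ : ∃ e : K' ≃ₗ[k] (Fin (Module.finrank K K') → K),
      e = b.equivFun.restrictScalars k := ⟨_, rfl⟩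
  have he_apply : ∀ z i, e z i = b.repr z i := by
    intro z i
    rw [he]
    rfl
  have he_symm : ∀ w, e.symm w = ∑ i, w i • b i := by
    intro w
    rw [he]
    exact b.equivFun_symm_apply w
  obtain ⟨A, hAdef⟩ : ∃ A : Submodule k (Fin (Module.finrank K K') → K),
      A = Submodule.pi Set.univ (fun _ : Fin (Module.finrank K K') => OPl P) := ⟨_, rfl⟩
  have hA : semiO Qs = A.comap e.toLinearMap := by
    ext z
    rw [mem_semiO, Submodule.mem_comap, hAdef, Submodule.mem_pi]
    constructor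
    · intro hz i _
      change P.1 (e z i) ≤ 1
      rw [he_apply]
      exact hb2 z (fun Q hQ => hz Q ((hQs Q).mpr hQ)) i
    · intro hz Q hQ
      obtain ⟨eQ, heQ⟩ := (hQs Q).mp hQ
      rw [← b.sum_repr z]
      apply Valuation.map_sum_le
      intro i _
      rw [Algebra.smul_def, map_mul]
      refine mul_le_one' ((ow_le_one_iff heQ _).mpr ?_) (hb1 i Q ⟨eQ, heQ⟩)
      have := hz i (Set.mem_univ i)
      change P.1 (e z i) ≤ 1 at this
      rwa [he_apply] at this
  have hAmap : A = (semiO Qs).map e.toLinearMap := by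
    rw [hA, Submodule.map_comap_eq_of_surjective e.surjective]
  have hsup : LinearMap.range e.toLinearMap ⊔ A = ⊤ := by
    rw [LinearEquiv.range, top_sup_eq]
  obtain ⟨f', hf'⟩ : ∃ f' : (Fin (Module.finrank K K') → K) →ₗ[k] (Fin (Module.finrank K K') → K),
      f' = e.toLinearMap ∘ₗ mulK k y ∘ₗ e.symm.toLinearMap := ⟨_, rfl⟩
  have hf'_apply : ∀ w, f' w = e (y * e.symm w) := fun w => by rw [hf']; rfl
  have hfe : e.toLinearMap ∘ₗ mulK k y = f' ∘ₗ e.toLinearMap := by
    ext z
    simp only [LinearMap.coe_comp, LinearEquiv.coe_coe, Function.comp_apply,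
      LinearMap.mulLeft_apply, hf'_apply, LinearEquiv.symm_apply_apply]
  have hge : e.toLinearMap ∘ₗ mulK k (algebraMap K K' x) =
      piMap (fun _ => mulK k x) ∘ₗ e.toLinearMap := by
    ext z i
    simp only [LinearMap.coe_comp, LinearEquiv.coe_coe, Function.comp_apply,
      LinearMap.mulLeft_apply, piMap_apply, he_apply]
    rw [← Algebra.smul_def, map_smul]
    rfl
  have hcomm' : f' ∘ₗ piMap (fun _ => mulK k x) = piMap (fun _ => mulK k x) ∘ₗ f' := by
    refine LinearMap.ext fun w => ?_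
    obtain ⟨z, rfl⟩ := e.surjective w
    have h1 : piMap (fun _ => mulK k x) (e z) = e (algebraMap K K' x * z) :=
      (LinearMap.congr_fun hge z).symm
    have h2 : ∀ z', f' (e z') = e (y * z') := fun z' => (LinearMap.congr_fun hfe z').symm
    simp only [LinearMap.coe_comp, Function.comp_apply]
    rw [h1, h2, h2, ← mul_assoc, mul_comm y, mul_assoc]
    exact (LinearMap.congr_fun hge (y * z))
  have hfA' : Almost (A.map f') A := by
    have h1 := (halm' y).map' e.toLinearMap
    rw [← hAmap] at h1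
    refine h1.mono_left ?_
    rintro _ ⟨w, hw, rfl⟩
    rw [hAmap] at hw
    obtain ⟨z, hz, rfl⟩ := hw
    exact ⟨y * z, ⟨z, hz, rfl⟩, (LinearMap.congr_fun hfe z)⟩
  have hgA' : Almost (A.map (piMap (fun _ => mulK k x))) A := by
    rw [hAdef]
    exact almost_piMap (fun _ => halm x)
  have hπA : LinearMap.IsProj A (piMap (fun _ : Fin (Module.finrank K K') => π)) := by
    rw [hAdef]
    exact isProj_piMap (fun _ => hπ)
  have h := tres_transfer e.toLinearMap e.injective (A := semiO Qs) (A' := A) hA hsup hπ' hπA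
    (f := mulK k y) (g := mulK k (algebraMap K K' x)) (f' := f')
    (g' := piMap (fun _ => mulK k x)) hfe hge (mulK_comm _ _) hcomm'
    (halm' y) (halm' _) hfA' hgA'
  rw [h]
  unfold tres
  have hmem := tN_mem_E0 hπA hfA' hgA'
  rw [hAdef] at hmem
  rw [trFP_pi _ _ hmem]
  have hblock : ∀ i, (LinearMap.proj i) ∘ₗ
      tN (piMap (fun _ : Fin (Module.finrank K K') => π)) f' (piMap (fun _ => mulK k x)) ∘ₗ
        (LinearMap.single k (fun _ : Fin (Module.finrank K K') => K) i) =
      tN π (mulK k (Algebra.leftMulMatrix b y i i)) (mulK k x) := by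
    intro i
    ext v
    have h1 : f' (Pi.single i v) i = Algebra.leftMulMatrix b y i i * v := by
      rw [hf'_apply, he_symm, he_apply, Finset.sum_eq_single i]
      · rw [Pi.single_eq_same, mul_smul_comm, map_smul, Algebra.leftMulMatrix_eq_repr_mul]
        simp only [Finsupp.smul_apply, smul_eq_mul]
        ring
      · intro j _ hj
        rw [Pi.single_eq_of_ne hj, zero_smul]
      · intro h
        exact absurd (Finset.mem_univ i) h
    simp only [LinearMap.coe_comp, Function.comp_apply, LinearMap.coe_proj, Function.eval,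
      tN_apply, piMap_apply, LinearMap.coe_single, Pi.sub_apply, LinearMap.mulLeft_apply, h1]
  rw [Finset.sum_congr rfl (fun i _ => congrArg trFP (hblock i))]
  have h3 := tres_sum_left hπ halm Finset.univ (fun i => Algebra.leftMulMatrix b y i i) x
  unfold tres at h3
  rw [← h3, Algebra.trace_eq_matrix_trace b y]
  rfl

end Trace


section Main

variable {k : Type u} {K : Type v} {K' : Type v} [Field k] [Field K] [Field K'] [Algebra k K]
  [Algebra K K'] [Algebra k K'] [IsScalarTower k K K'] [FiniteDimensional K K']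

/-- **the trace formula for local residues**: `Res_P(tr(y) dx) = ∑_{Q | P} Res_Q(y dx)` -/
theorem locRes_trace (hK : IsFunctionField k K) (P : Place k K)
    (F : Type w) [Field F] [Algebra k F] [FiniteDimensional k F]
    (φ : K →ₐ[k] LaurentSeries F) (hφ : LocRes.IsExpansionAt P.1 φ)
    (Qs : Finset (Place k K')) (hQs : ∀ Q, Q ∈ Qs ↔ IsOver Q P)
    (F' : Place k K' → Type w) [∀ Q, Field (F' Q)] [∀ Q, Algebra k (F' Q)]
    [∀ Q, FiniteDimensional k (F' Q)]
    (ψ : ∀ Q, K' →ₐ[k] LaurentSeries (F' Q)) (hψ : ∀ Q ∈ Qs, LocRes.IsExpansionAt Q.1 (ψ Q))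
    (y : K') (x : K) :
    LocRes.locRes φ (Algebra.trace K K' y) x =
      ∑ Q ∈ Qs, LocRes.locRes (ψ Q) y (algebraMap K K' x) := by
  have hne : Qs.Nonempty := by
    obtain ⟨Q, hQ⟩ := exists_over (K' := K') hK P
    exact ⟨Q, (hQs Q).mpr hQ⟩
  obtain ⟨π, hπ⟩ := exists_isProj (OPl P)
  obtain ⟨π', hπ'⟩ := exists_isProj (semiO Qs)
  have hπV : LinearMap.IsProj (OV φ) π := by
    rw [OV_eq_OPl hφ]
    exact hπ
  have halm : ∀ z : K, Almost ((OPl P).map (mulK k z)) (OPl P) := by
    intro z
    rw [← OV_eq_OPl hφ]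
    exact almost_mulK z
  have halm' : ∀ z : K', Almost ((semiO Qs).map (mulK k z)) (semiO Qs) := fun z =>
    (tres_semilocal Qs hne F' ψ hψ hπ' z z).1
  rw [← tres_eq_locRes hφ hπV, ← tres_trace (isFFw_of_isFunctionField hK) P Qs hQs hπ hπ' halm halm',
    (tres_semilocal Qs hne F' ψ hψ hπ' y (algebraMap K K' x)).2]

end Main

end Groth.Agent.Helper9.Tate
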